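import Groth.Agent.Lib.FrobTrace28.Zar
import Groth.Agent.Lib.BCCoh.CechA
import Groth.Agent.Lib.Euler.Basic
import Groth.Agent.Lib.Euler.InvHom
import Groth.Agent.Lib.Chow.Prod

/-!
# The complex of a closed subscheme of projective space
-/

set_option autoImplicit false
set_option linter.all false
set_option backward.isDefEq.respectTransparency false

universe u

set_option maxHeartbeats 400000

open AlgebraicGeometry CategoryTheory CategoryTheory.Limits TopologicalSpace Opposite

noncomputable section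

namespace GrothLib.FrobTrace28

open GrothLib.ProjCohom

variable {n : ℕ} {k : Type u} [Field k] [Finite k] {Y : Scheme.{u}} (ι : Y ⟶ Proj (CohB1.polyGrading n k))
  [IsClosedImmersion ι] (f : Y ⟶ Spec (CommRingCat.of k)) (hf : ι ≫ ts n k = f)

/-- The charts of the subscheme. -/
abbrev V (i : ULift.{u} (Fin (n + 1))) : Y.Opens := ι ⁻¹ᵁ ProjCohom.U n k i

/-- The tuple of vertices. -/
abbrev dn {p : ℕ} (a : Fin p → ULift.{u} (Fin (n + 1))) : Fin p → Fin (n + 1) := fun j => (a j).down

theorem W_eq {p : ℕ} (a : Fin (p + 1) → ULift.{u} (Fin (n + 1))) :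
    BCCoh.W (V ι) a = ι ⁻¹ᵁ Dt k (dn a) := by
  have h := W_up (R := k) (dn a)
  apply TopologicalSpace.Opens.ext
  ext y
  rw [BCCoh.W, Cech.obj_eq_iInf]
  simp only [Opens.coe_iInf, Set.mem_iInter, SetLike.mem_coe]
  show (∀ i, ι y ∈ ProjCohom.U n k (a i)) ↔ ι y ∈ Dt k (dn a)
  rw [← h, BCCoh.W, Cech.obj_eq_iInf]
  rw [← SetLike.mem_coe (p := ⨅ _, _), Opens.coe_iInf, Set.mem_iInter]
  rfl

/-- A function as a section of the structure module. -/
def inS {W : Y.Opens} (x : Γ(Y, W)) : BCCoh.secA f (Coh.structureModule Y) W := x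

/-- A section of the structure module as a function. -/
def outS {W : Y.Opens} (x : BCCoh.secA f (Coh.structureModule Y) W) : Γ(Y, W) := x

/-- The constants of the base. -/
def cB (W : Y.Opens) : k →+* Γ(Y, W) :=
  (Y.presheaf.map (homOfLE le_top).op).hom.comp (Coh.toGlobal f)

theorem outS_inj {W : Y.Opens} {x y : BCCoh.secA f (Coh.structureModule Y) W} (h : outS f x = outS f y) : x = y := h

theorem outS_add {W : Y.Opens} (x y : BCCoh.secA f (Coh.structureModule Y) W) :
    outS f (x + y) = outS f x + outS f y := rfl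

theorem outS_sum {W : Y.Opens} {α : Type*} (t : Finset α)
    (x : α → BCCoh.secA f (Coh.structureModule Y) W) : outS f (∑ i ∈ t, x i) = ∑ i ∈ t, outS f (x i) :=
  map_sum ({ toFun := outS f, map_zero' := rfl, map_add' := fun _ _ => rfl } :
    BCCoh.secA f (Coh.structureModule Y) W →+ Γ(Y, W)) x t

theorem outS_zsmul {W : Y.Opens} (z : ℤ) (x : BCCoh.secA f (Coh.structureModule Y) W) :
    outS f (z • x) = z • outS f x :=
  map_zsmul ({ toFun := outS f, map_zero' := rfl, map_add' := fun _ _ => rfl } :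
    BCCoh.secA f (Coh.structureModule Y) W →+ Γ(Y, W)) z x

theorem outS_smul {W : Y.Opens} (r : k) (x : BCCoh.secA f (Coh.structureModule Y) W) :
    outS f (r • x) = cB f W r * outS f x := rfl

theorem outS_res {W W' : Y.Opens} (h : W' ≤ W) (x : BCCoh.secA f (Coh.structureModule Y) W) :
    outS f (BCCoh.resA f (Coh.structureModule Y) h x) = Y.presheaf.map (homOfLE h).op (outS f x) := rfl

/-- The restriction to the subscheme. -/
def rho {p : ℕ} (a : Fin (p + 1) → ULift.{u} (Fin (n + 1))) : Γt k (dn a) →+* Γ(Y, BCCoh.W (V ι) a) :=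
  (ι.appLE (Dt k (dn a)) (BCCoh.W (V ι) a) (W_eq ι a).le).hom

theorem rho_surjective {p : ℕ} (a : Fin (p + 1) → ULift.{u} (Fin (n + 1))) : Function.Surjective (rho ι a) := by
  intro y
  obtain ⟨y', rfl⟩ := (ConcreteCategory.bijective_of_isIso
    (Y.presheaf.map (eqToHom (W_eq ι a)).op)).2 y
  obtain ⟨x, rfl⟩ := ι.app_surjective (Dt k (dn a)) (isAffineOpen_Dt (dn a)) y'
  refine ⟨x, ?_⟩
  show (ι.app _ ≫ Y.presheaf.map _) x = _
  rfl

include hf in
theorem rho_cst {p : ℕ} (a : Fin (p + 1) → ULift.{u} (Fin (n + 1))) (r : k) :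
    rho ι a (cst0 (Dt k (dn a)) r) = cB f (BCCoh.W (V ι) a) r := by
  subst hf
  have h1 : (Spec.map (CommRingCat.ofHom (algebraMap k (CohB1.polyGrading n k 0)))).appTop
      ((Scheme.ΓSpecIso (CommRingCat.of k)).inv r) =
      (Scheme.ΓSpecIso _).inv (algebraMap k (CohB1.polyGrading n k 0) r) := by
    rw [← CommRingCat.comp_apply, ← Scheme.ΓSpecIso_inv_naturality]
    rfl
  have h2 : Coh.toGlobal (ι ≫ ts n k) r =
      ι.appTop ((VA.constSec (CohB1.polyGrading n k)) (algebraMap k (CohB1.polyGrading n k 0) r)) := by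
    show ((ι ≫ ts n k).appTop) ((Scheme.ΓSpecIso (CommRingCat.of k)).inv r) = _
    rw [Scheme.Hom.comp_appTop, CommRingCat.comp_apply, ts, Scheme.Hom.comp_appTop, CommRingCat.comp_apply, h1]
    rfl
  refine Eq.trans ?_ (congrArg (Y.presheaf.map (homOfLE le_top).op).hom h2).symm
  show ((Proj (CohB1.polyGrading n k)).presheaf.map (homOfLE (le_top : Dt k (dn a) ≤ ⊤)).op ≫
      ι.appLE (Dt k (dn a)) (BCCoh.W (V ι) a) (W_eq ι a).le) _ = (ι.appTop ≫ Y.presheaf.map _) _
  rw [Scheme.Hom.map_appLE]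
  rfl

theorem rho_res {p : ℕ} (a : Fin (p + 2) → ULift.{u} (Fin (n + 1))) (j : Fin (p + 2))
    (h : BCCoh.W (V ι) a ≤ BCCoh.W (V ι) fun l => a (j.succAbove l))
    (h' : Dt k (dn a) ≤ Dt k (dn a ∘ j.succAbove)) (s : Γt k (dn a ∘ j.succAbove)) :
    rho ι a ((Proj (CohB1.polyGrading n k)).presheaf.map (homOfLE h').op s) =
      Y.presheaf.map (homOfLE h).op (rho ι (fun l => a (j.succAbove l)) s) := by
  show ((Proj (CohB1.polyGrading n k)).presheaf.map _ ≫ ι.appLE _ _ _) s = (ι.appLE _ _ _ ≫ Y.presheaf.map _) s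
  rw [Scheme.Hom.map_appLE, Scheme.Hom.appLE_map]

/-- The cochains vanishing on the subscheme. -/
def famK : Fam n k where
  M {p} t := imgI t (RingHom.ker (rho ι (fun j => ULift.up.{u} (t j))))
  mono {p} t j := by
    rintro _ ⟨s, hs, rfl⟩
    refine ⟨_, ?_, val0_res t j s (Dt_le t j)⟩
    have hle : BCCoh.W (V ι) (fun l => ULift.up.{u} (t l)) ≤
        BCCoh.W (V ι) fun l => ULift.up.{u} (t (j.succAbove l)) :=
      leOfHom (Cech.proj (D := Opens Y.carrier) (V ι) (fun l => ULift.up.{u} (t l)) j)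
    rw [SetLike.mem_coe, RingHom.mem_ker] at hs ⊢
    refine (rho_res ι (fun l => ULift.up.{u} (t l)) j hle (Dt_le t j) s).trans ?_
    exact (congrArg _ hs).trans (map_zero _)
  pow_mem {p} t x := by
    rintro ⟨s, hs, rfl⟩
    exact ⟨s ^ Nat.card k, Ideal.pow_mem_of_mem _ hs _ Nat.card_pos, map_pow _ _ _⟩

theorem famK_le_all0 : (famK ι).sys ≤ (all0 n k).sys :=
  Fam.sys_le fun t => by
    rintro _ ⟨s, -, rfl⟩
    exact val0_mem t s

/-- The function with a given Laurent polynomial. -/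
def secOf {p : ℕ} (t : Fin (p + 1) → Fin (n + 1)) {x : Lau n k} (hx : x ∈ AS k 0 t) : Γt k t :=
  (exists_val0 t hx).choose

theorem val0_secOf {p : ℕ} (t : Fin (p + 1) → Fin (n + 1)) {x : Lau n k} (hx : x ∈ AS k 0 t) :
    val0 t (secOf t hx) = x :=
  (exists_val0 t hx).choose_spec

theorem all0_mem {p : ℕ} (c : (all0 n k).sys.S p) (t : Fin (p + 1) → Fin (n + 1)) :
    (show (LC n k).X p from c.1) t ∈ AS k 0 t := c.2 t trivial

/-- Cochains of projective space to cochains of the subscheme. -/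
def Psi (p : ℕ) : (all0 n k).sys.S p →ₗ[k] BCCoh.cxX f (V ι) (Coh.structureModule Y) p :=
  haveI := hf
  { toFun := fun c a => inS f (rho ι a (secOf (dn a) (all0_mem c (dn a))))
    map_add' := fun c c' => funext fun a => outS_inj f (by
      show rho ι a _ = rho ι a _ + rho ι a _
      rw [← map_add]
      refine congrArg _ (val0_injective (dn a) ?_)
      rw [map_add, val0_secOf, val0_secOf, val0_secOf]
      rfl)
    map_smul' := fun r c => funext fun a => outS_inj f (by
      show rho ι a _ = cB f _ r * rho ι a _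
      rw [← rho_cst ι f hf a r, ← map_mul]
      refine congrArg _ (val0_injective (dn a) ?_)
      rw [smul_val0, val0_secOf, val0_secOf]
      rfl) }

theorem Psi_apply (p : ℕ) (c : (all0 n k).sys.S p) (a : Fin (p + 1) → ULift.{u} (Fin (n + 1))) {s : Γt k (dn a)}
    (hs : val0 (dn a) s = (show (LC n k).X p from c.1) (dn a)) : outS f (Psi ι f hf p c a) = rho ι a s :=
  congrArg (rho ι a) (val0_injective (dn a) ((val0_secOf _ _).trans hs.symm))

theorem Psi_surjective (p : ℕ) : Function.Surjective (Psi ι f hf p) := by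
  intro y
  choose s hs using fun a => rho_surjective ι a (outS f (y a))
  refine ⟨⟨fun t => val0 t (s (fun j => ULift.up.{u} (t j))), fun t _ => val0_mem t _⟩, funext fun a => outS_inj f ?_⟩
  rw [Psi_apply ι f hf p _ a (s := s a) rfl, hs]

theorem Psi_eq_zero_iff (p : ℕ) (c : (all0 n k).sys.S p) :
    Psi ι f hf p c = 0 ↔ (c.1 : (LC n k).X p) ∈ (famK ι).sys.S p := by
  rw [Fam.mem_sys]
  constructor
  · intro h t
    refine ⟨secOf t (all0_mem c t), ?_, val0_secOf _ _⟩
    rw [SetLike.mem_coe, RingHom.mem_ker, ← Psi_apply ι f hf p c (fun j => ULift.up.{u} (t j)) (val0_secOf t _), h]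
    rfl
  · intro h
    refine funext fun a => outS_inj f ?_
    obtain ⟨s, hs, e⟩ := h (dn a)
    rw [Psi_apply ι f hf p c a e]
    exact (RingHom.mem_ker).1 hs

/-- The differential on all regular cochains. -/
def dA (p : ℕ) : (all0 n k).sys.S p →ₗ[k] (all0 n k).sys.S (p + 1) :=
  ((LC n k).d p).restrict fun x hx => (all0 n k).sys.d_mem p x hx

/-- The Frobenius on all regular cochains. -/
def tA (p : ℕ) : (all0 n k).sys.S p →ₗ[k] (all0 n k).sys.S p :=
  ((LC n k).t p).restrict fun x hx => (all0 n k).sys.t_mem p x hx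

theorem Psi_d (p : ℕ) (c : (all0 n k).sys.S p) :
    BCCoh.cxd f (V ι) (Coh.structureModule Y) p (Psi ι f hf p c) = Psi ι f hf (p + 1) (dA p c) := by
  funext a
  rw [BCCoh.cxd_apply]
  refine outS_inj f ?_
  have hle : ∀ j : Fin (p + 2), Dt k (dn a) ≤ Dt k (dn a ∘ j.succAbove) := fun j => Dt_le (dn a) j
  let s : ∀ j : Fin (p + 2), Γt k (dn a ∘ j.succAbove) := fun j => secOf _ (all0_mem c (dn a ∘ j.succAbove))
  rw [Psi_apply ι f hf (p + 1) (dA p c) a
    (s := ∑ j : Fin (p + 2), (-1 : ℤ) ^ (j : ℕ) •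
      (Proj (CohB1.polyGrading n k)).presheaf.map (homOfLE (hle j)).op (s j)) (by
      rw [map_sum]
      show _ = Dl n k p c.1 (dn a)
      rw [Dl_apply]
      refine Finset.sum_congr rfl fun j _ => ?_
      rw [map_zsmul, val0_res (dn a) j (s j) (hle j), val0_secOf])]
  rw [outS_sum, map_sum]
  refine Finset.sum_congr rfl fun j _ => ?_
  rw [outS_zsmul, map_zsmul]
  refine congrArg _ ?_
  show outS f (BCCoh.resA f _ _ _) = _
  rw [outS_res]
  exact ((rho_res ι a j _ (hle j) (s j)).trans (congrArg _ (Psi_apply ι f hf p c _ (val0_secOf _ _)).symm)).symm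

/-- The `q`-power map of functions. -/
def frobSec (W : Y.Opens) :
    BCCoh.secA f (Coh.structureModule Y) W →ₗ[k] BCCoh.secA f (Coh.structureModule Y) W where
  toFun x := inS f (outS f x ^ Nat.card k)
  map_add' x y := outS_inj f (by
    show (outS f x + outS f y) ^ Nat.card k = outS f x ^ Nat.card k + outS f y ^ Nat.card k
    letI := (cB f W).toAlgebra
    letI := Fintype.ofFinite k
    rw [Nat.card_eq_fintype_card]
    exact map_add (FiniteField.frobeniusAlgHom k Γ(Y, W)) _ _)
  map_smul' r x := outS_inj f (by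
    show (cB f W r * outS f x) ^ Nat.card k = cB f W r * outS f x ^ Nat.card k
    letI := Fintype.ofFinite k
    rw [mul_pow, ← map_pow, Nat.card_eq_fintype_card, FiniteField.pow_card])

theorem outS_frobSec {W : Y.Opens} (x : BCCoh.secA f (Coh.structureModule Y) W) :
    outS f (frobSec f W x) = outS f x ^ Nat.card k := rfl

/-- The Frobenius of the Čech complex. -/
def frobCx : BCCoh.cx f (V ι) (Coh.structureModule Y) ⟶ BCCoh.cx f (V ι) (Coh.structureModule Y) :=
  CochainComplex.ofHom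
    (fun p => ModuleCat.ofHom (LinearMap.pi fun a : Fin (p + 1) → ULift.{u} (Fin (n + 1)) =>
      (frobSec f (BCCoh.W (V ι) a)).comp (LinearMap.proj (R := k)
        (φ := fun a : Fin (p + 1) → ULift.{u} (Fin (n + 1)) => BCCoh.secA f (Coh.structureModule Y) (BCCoh.W (V ι) a)) a)))
    fun p => by
      rw [BCCoh.cx_d]
      refine ConcreteCategory.hom_ext _ _ fun y => funext fun a => ?_
      show BCCoh.cxd f (V ι) _ p (fun b => frobSec f _ (y b)) a =
        frobSec f _ (BCCoh.cxd f (V ι) (Coh.structureModule Y) p y a)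
      rw [BCCoh.cxd_apply, BCCoh.cxd_apply, map_sum]
      refine Finset.sum_congr rfl fun j _ => ?_
      rw [map_zsmul]
      refine congrArg _ (outS_inj f ?_)
      rw [outS_res, outS_frobSec, outS_frobSec, outS_res, map_pow]

theorem Psi_t (p : ℕ) (c : (all0 n k).sys.S p) :
    (frobCx ι f).f p (Psi ι f hf p c) = Psi ι f hf p (tA p c) := by
  funext a
  refine outS_inj f ?_
  show outS f (Psi ι f hf p c a) ^ Nat.card k = _
  rw [Psi_apply ι f hf p (tA p c) a (s := secOf (dn a) (all0_mem c (dn a)) ^ Nat.card k) (by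
      rw [map_pow, val0_secOf]; exact (frob_apply n k _).symm),
    map_pow]
  rfl

section Homology

local notation "K'" => BCCoh.cx f (V ι) (Coh.structureModule Y)

/-- Relative cocycles to cochains. -/
def PsiZ (p : ℕ) : Zc (famK ι).sys (all0 n k).sys p →ₗ[k] BCCoh.cxX f (V ι) (Coh.structureModule Y) p :=
  (Psi ι f hf p).comp (Submodule.inclusion (inf_le_left : Zc (famK ι).sys (all0 n k).sys p ≤ (all0 n k).sys.S p))

theorem PsiZ_d (p : ℕ) (z : Zc (famK ι).sys (all0 n k).sys p) :
    BCCoh.cxd f (V ι) (Coh.structureModule Y) p (PsiZ ι f hf p z) = 0 :=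
  (Psi_d ι f hf p _).trans ((Psi_eq_zero_iff ι f hf (p + 1) _).2 z.2.2)

theorem PsiZ_comp_d (p : ℕ) :
    ModuleCat.ofHom (PsiZ ι f hf p) ≫ (K').d p (p + 1) = 0 := by
  rw [BCCoh.cx_d]
  exact ConcreteCategory.hom_ext _ _ fun z => PsiZ_d ι f hf p z

/-- Relative cocycles to homology. -/
def Theta (p : ℕ) : ModuleCat.of k (Zc (famK ι).sys (all0 n k).sys p) ⟶ (K').homology p :=
  (K').liftCycles (ModuleCat.ofHom (PsiZ ι f hf p)) (p + 1) (by simp) (PsiZ_comp_d ι f hf p) ≫ (K').homologyπ p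

theorem iCycles_lift (p : ℕ) (z : Zc (famK ι).sys (all0 n k).sys p) :
    (K').iCycles p ((K').liftCycles (ModuleCat.ofHom (PsiZ ι f hf p)) (p + 1) (by simp) (PsiZ_comp_d ι f hf p) z) =
      PsiZ ι f hf p z :=
  ConcreteCategory.congr_hom (HomologicalComplex.liftCycles_i (K') (ModuleCat.ofHom (PsiZ ι f hf p)) (p + 1)
    (by simp) (PsiZ_comp_d ι f hf p)) z

theorem iCycles_injective (p : ℕ) : Function.Injective ((K').iCycles p) :=
  (ModuleCat.mono_iff_injective _).1 inferInstance

theorem Theta_surjective (p : ℕ) : Function.Surjective (Theta ι f hf p) := by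
  intro y
  obtain ⟨z, rfl⟩ := (ModuleCat.epi_iff_surjective ((K').homologyπ p)).1 inferInstance y
  obtain ⟨c, hc⟩ := Psi_surjective ι f hf p ((K').iCycles p z)
  have hd : Psi ι f hf (p + 1) (dA p c) = 0 := by
    rw [← Psi_d, hc]
    have := ConcreteCategory.congr_hom ((K').iCycles_d p (p + 1)) z
    rw [BCCoh.cx_d] at this
    exact this
  refine ⟨⟨c.1, c.2, (Psi_eq_zero_iff ι f hf (p + 1) _).1 hd⟩, ?_⟩
  show (K').homologyπ p _ = _
  refine congrArg _ (iCycles_injective ι f p ((iCycles_lift ι f hf p _).trans ?_))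
  exact hc

theorem Theta_eq_zero_iff (p : ℕ) (z : Zc (famK ι).sys (all0 n k).sys p) :
    Theta ι f hf p z = 0 ↔ (z.1 : (LC n k).X p) ∈ Bd (famK ι).sys (all0 n k).sys p := by
  set w := (K').liftCycles (ModuleCat.ofHom (PsiZ ι f hf p)) (p + 1) (by simp) (PsiZ_comp_d ι f hf p) z with hw
  show (K').homologyπ p w = 0 ↔ _
  rcases p with _ | p
  · have hinj : Function.Injective ((K').homologyπ 0) :=
      (ConcreteCategory.bijective_of_isIso ((K').homologyπ 0)).1
    rw [map_eq_zero_iff _ hinj, ← map_eq_zero_iff _ (iCycles_injective ι f 0), iCycles_lift]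
    exact Psi_eq_zero_iff ι f hf 0 _
  · have hex := ShortComplex.exact_of_g_is_cokernel
      (ShortComplex.mk ((K').toCycles p (p + 1)) ((K').homologyπ (p + 1)) (by simp))
      ((K').homologyIsCokernel p (p + 1) (by simp))
    rw [ShortComplex.moduleCat_exact_iff] at hex
    constructor
    · intro h
      obtain ⟨y, hy⟩ := hex w h
      obtain ⟨c, rfl⟩ := Psi_surjective ι f hf p y
      have h1 : Psi ι f hf (p + 1) (dA p c) = PsiZ ι f hf (p + 1) z := by
        rw [← Psi_d, ← iCycles_lift, ← hw, ← hy]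
        have := ConcreteCategory.congr_hom ((K').toCycles_i p (p + 1)) (Psi ι f hf p c)
        rw [BCCoh.cx_d] at this
        exact this.symm
      have h2 : Psi ι f hf (p + 1) ((Submodule.inclusion (inf_le_left : Zc (famK ι).sys (all0 n k).sys (p + 1) ≤ (all0 n k).sys.S (p + 1)) z) - dA p c) = 0 := by
        rw [map_sub, h1]
        exact sub_self _
      have h3 := (Psi_eq_zero_iff ι f hf (p + 1) _).1 h2
      refine Submodule.mem_sup.2 ⟨_, h3, _, ⟨c.1, c.2, rfl⟩, ?_⟩
      exact sub_add_cancel (z.1 : (LC n k).X (p + 1)) ((LC n k).d p c.1)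
    · intro h
      obtain ⟨a, ha, _, ⟨b, hb, rfl⟩, e⟩ := Submodule.mem_sup.1 h
      have h1 : w = (K').toCycles p (p + 1) (Psi ι f hf p ⟨b, hb⟩) := by
        refine iCycles_injective ι f (p + 1) ?_
        have := ConcreteCategory.congr_hom ((K').toCycles_i p (p + 1)) (Psi ι f hf p ⟨b, hb⟩)
        rw [BCCoh.cx_d] at this
        rw [hw, iCycles_lift]
        refine Eq.trans ?_ this.symm
        show _ = BCCoh.cxd f (V ι) _ p (Psi ι f hf p ⟨b, hb⟩)
        rw [Psi_d, PsiZ, LinearMap.comp_apply, ← sub_eq_zero, ← map_sub, Psi_eq_zero_iff]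
        show (z.1 : (LC n k).X (p + 1)) - (LC n k).d p b ∈ _
        rw [← e, add_sub_cancel_right]
        exact ha
      rw [h1, ← ConcreteCategory.comp_apply, HomologicalComplex.toCycles_comp_homologyπ]
      rfl

theorem Theta_t (p : ℕ) (z : Zc (famK ι).sys (all0 n k).sys p)
    (hz : ((LC n k).t p z.1) ∈ Zc (famK ι).sys (all0 n k).sys p) :
    HomologicalComplex.homologyMap (frobCx ι f) p (Theta ι f hf p z) = Theta ι f hf p ⟨_, hz⟩ := by
  show HomologicalComplex.homologyMap (frobCx ι f) p ((K').homologyπ p _) = (K').homologyπ p _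
  rw [← ConcreteCategory.comp_apply, HomologicalComplex.homologyπ_naturality, ConcreteCategory.comp_apply]
  refine congrArg _ (iCycles_injective ι f p ?_)
  have h1 := ConcreteCategory.congr_hom (HomologicalComplex.cyclesMap_i (frobCx ι f) p)
    ((K').liftCycles (ModuleCat.ofHom (PsiZ ι f hf p)) (p + 1) (by simp) (PsiZ_comp_d ι f hf p) z)
  refine h1.trans ((congrArg ((frobCx ι f).f p) (iCycles_lift ι f hf p z)).trans ?_)
  exact (Psi_t ι f hf p _).trans (iCycles_lift ι f hf p ⟨_, hz⟩).symm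

/-- Relative cohomology is Čech cohomology. -/
def thetaEquiv (p : ℕ) : Hc (famK ι).sys (all0 n k).sys p ≃ₗ[k] (K').homology p :=
  LinearEquiv.ofBijective
    (Submodule.liftQ _ (Theta ι f hf p).hom fun z hz => (Theta_eq_zero_iff ι f hf p z).2 hz)
    ⟨by
      rw [← LinearMap.ker_eq_bot, Submodule.eq_bot_iff]
      intro z hz
      obtain ⟨x, hx, rfl⟩ := exists_cls z
      exact cls_eq_zero.2 ((Theta_eq_zero_iff ι f hf p ⟨x, hx⟩).1 hz),
    fun y => by
      obtain ⟨z, hz⟩ := Theta_surjective ι f hf p y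
      exact ⟨Submodule.Quotient.mk z, hz⟩⟩

theorem thetaEquiv_t (p : ℕ) (z : Hc (famK ι).sys (all0 n k).sys p) :
    thetaEquiv ι f hf p (tH _ _ p z) = HomologicalComplex.homologyMap (frobCx ι f) p (thetaEquiv ι f hf p z) := by
  obtain ⟨x, hx, rfl⟩ := exists_cls z
  exact (Theta_t ι f hf p ⟨x, hx⟩ _).symm

end Homology

end GrothLib.FrobTrace28
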