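import Mathlib.LinearAlgebra.Trace
import Mathlib.LinearAlgebra.FiniteDimensional.Lemmas
import Mathlib.Algebra.BigOperators.Finprod
import Mathlib.RingTheory.Nilpotent.Lemmas
import Mathlib.RingTheory.Noetherian.Basic
import Mathlib.RingTheory.Finiteness.Nilpotent

/-!
# Alternating traces on subquotients of a complex
-/

set_option autoImplicit false
set_option linter.all false

universe u v

open LinearMap

namespace GrothLib.FrobTrace28

variable {k : Type u} [Field k]

/-- The trace splits along the kernel and the range of an equivariant map. -/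
theorem trace_eq_ker_add_range {V W : Type v} [AddCommGroup V] [Module k V] [FiniteDimensional k V]
    [AddCommGroup W] [Module k W] (S : V →ₗ[k] V) (S' : W →ₗ[k] W) (f : V →ₗ[k] W)
    (h : ∀ x, f (S x) = S' (f x)) (hk : ∀ x ∈ ker f, S x ∈ ker f) (hr : ∀ x ∈ range f, S' x ∈ range f) :
    trace k V S = trace k (ker f) (S.restrict hk) + trace k (range f) (S'.restrict hr) := by
  obtain ⟨π, hπ⟩ := (ker f).subtype.exists_leftInverse_of_injective (ker f).ker_subtype
  obtain ⟨s, hs⟩ := f.rangeRestrict.exists_rightInverse_of_surjective f.range_rangeRestrict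
  have hπ' : ∀ x : ker f, π x = x := fun x => LinearMap.congr_fun hπ x
  have hs' : ∀ y, f (s y) = (y : W) := fun y => congrArg Subtype.val (LinearMap.congr_fun hs y)
  let π' : V →ₗ[k] ker f := π - π.comp (s.comp f.rangeRestrict)
  have hsum : (ker f).subtype.comp π' + s.comp f.rangeRestrict = LinearMap.id := by
    ext x
    have hmem : x - s (f.rangeRestrict x) ∈ ker f := by
      rw [LinearMap.mem_ker, map_sub, hs']; exact sub_self (f x)
    have := congrArg Subtype.val (hπ' ⟨_, hmem⟩)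
    simp only [map_sub] at this
    simp [π', this]
  calc trace k V S = trace k V (S.comp ((ker f).subtype.comp π' + s.comp f.rangeRestrict)) := by
        rw [hsum, LinearMap.comp_id]
    _ = trace k (ker f) (π'.comp (S.comp (ker f).subtype)) +
        trace k (range f) ((f.rangeRestrict.comp S).comp s) := by
        rw [LinearMap.comp_add, map_add, ← LinearMap.comp_assoc, trace_comp_comm',
          ← LinearMap.comp_assoc f.rangeRestrict s S, trace_comp_comm' f.rangeRestrict (S.comp s),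
          ← LinearMap.comp_assoc s S f.rangeRestrict]
    _ = _ := by
        congr 2
        · refine LinearMap.ext fun x => ?_
          have h0 : f.rangeRestrict (S x) = 0 := Subtype.ext (hk x x.2)
          show π (S x) - π (s (f.rangeRestrict (S x))) = _
          rw [h0, map_zero, map_zero, sub_zero]
          exact hπ' ⟨S x, hk x x.2⟩
        · refine LinearMap.ext fun y => Subtype.ext ?_
          show f (S (s y)) = S' y
          rw [h, hs']

theorem finite_of_exact {A B C : Type v} [AddCommGroup A] [Module k A] [AddCommGroup B] [Module k B]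
    [AddCommGroup C] [Module k C] {f : A →ₗ[k] B} {g : B →ₗ[k] C} (h : range f = ker g)
    [FiniteDimensional k A] [FiniteDimensional k C] : FiniteDimensional k B := by
  refine ⟨Submodule.fg_of_fg_map_of_fg_inf_ker g ?_ ?_⟩
  · exact IsNoetherian.noetherian _
  · rw [top_inf_eq, ← h, ← Submodule.map_top]
    exact Module.Finite.fg_top.map f

/-- A complex with an endomorphism. -/
structure TCx (k : Type u) [Field k] where
  X : ℕ → Type v
  [grp : ∀ p, AddCommGroup (X p)]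
  [mod : ∀ p, Module k (X p)]
  d : ∀ p, X p →ₗ[k] X (p + 1)
  t : ∀ p, X p →ₗ[k] X p
  d_d : ∀ p x, d (p + 1) (d p x) = 0
  d_t : ∀ p x, d p (t p x) = t (p + 1) (d p x)

attribute [instance] TCx.grp TCx.mod

variable {C : TCx.{u, v} k}

/-- A stable subcomplex. -/
structure Sys (C : TCx.{u, v} k) where
  S : ∀ p, Submodule k (C.X p)
  d_mem : ∀ p x, x ∈ S p → C.d p x ∈ S (p + 1)
  t_mem : ∀ p x, x ∈ S p → C.t p x ∈ S p

instance : LE (Sys C) := ⟨fun A B => ∀ p, A.S p ≤ B.S p⟩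

theorem Sys.le_trans {A B E : Sys C} (h : A ≤ B) (h' : B ≤ E) : A ≤ E := fun p => (h p).trans (h' p)

instance : Min (Sys C) :=
  ⟨fun A B => ⟨fun p => A.S p ⊓ B.S p, fun p x hx => ⟨A.d_mem p x hx.1, B.d_mem p x hx.2⟩,
    fun p x hx => ⟨A.t_mem p x hx.1, B.t_mem p x hx.2⟩⟩⟩

instance : Max (Sys C) :=
  ⟨fun A B => ⟨fun p => A.S p ⊔ B.S p, fun p x hx => by
      obtain ⟨a, ha, b, hb, rfl⟩ := Submodule.mem_sup.1 hx
      rw [map_add]
      exact Submodule.add_mem_sup (A.d_mem p a ha) (B.d_mem p b hb),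
    fun p x hx => by
      obtain ⟨a, ha, b, hb, rfl⟩ := Submodule.mem_sup.1 hx
      rw [map_add]
      exact Submodule.add_mem_sup (A.t_mem p a ha) (B.t_mem p b hb)⟩⟩

/-- Relative cocycles. -/
def Zc (A B : Sys C) (p : ℕ) : Submodule k (C.X p) := B.S p ⊓ (A.S (p + 1)).comap (C.d p)

/-- Relative coboundaries. -/
def Bd (A B : Sys C) : ∀ p, Submodule k (C.X p)
  | 0 => A.S 0
  | p + 1 => A.S (p + 1) ⊔ (B.S p).map (C.d p)

theorem le_Bd (A B : Sys C) : ∀ p, A.S p ≤ Bd A B p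
  | 0 => _root_.le_refl _
  | _ + 1 => le_sup_left

theorem d_mem_Bd (A B : Sys C) {p : ℕ} {x : C.X p} (hx : x ∈ B.S p) : C.d p x ∈ Bd A B (p + 1) :=
  Submodule.mem_sup_right ⟨x, hx, rfl⟩

theorem mem_Bd (A B : Sys C) {p : ℕ} {x : C.X p} (hx : x ∈ Bd A B p) :
    x ∈ A.S p ∨ ∃ q : ℕ, ∃ h : q + 1 = p, ∃ y ∈ B.S q, x - h ▸ C.d q y ∈ A.S p := by
  rcases p with _ | p
  · exact Or.inl hx
  · obtain ⟨a, ha, _, ⟨y, hy, rfl⟩, rfl⟩ := Submodule.mem_sup.1 hx
    exact Or.inr ⟨p, rfl, y, hy, by simpa using ha⟩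

/-- Relative cohomology. -/
abbrev Hc (A B : Sys C) (p : ℕ) : Type v :=
  (Zc A B p) ⧸ (Bd A B p).comap (Zc A B p).subtype

/-- The class of a cocycle. -/
abbrev cls {A B : Sys C} {p : ℕ} (x : C.X p) (hx : x ∈ Zc A B p) : Hc A B p := Submodule.Quotient.mk ⟨x, hx⟩

theorem cls_eq_zero {A B : Sys C} {p : ℕ} {x : C.X p} {hx : x ∈ Zc A B p} :
    cls x hx = 0 ↔ x ∈ Bd A B p := Submodule.Quotient.mk_eq_zero _

theorem cls_eq {A B : Sys C} {p : ℕ} {x y : C.X p} {hx : x ∈ Zc A B p} {hy : y ∈ Zc A B p} :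
    cls x hx = cls y hy ↔ x - y ∈ Bd A B p := Submodule.Quotient.eq _

theorem exists_cls {A B : Sys C} {p : ℕ} (z : Hc A B p) : ∃ x hx, cls x hx = z := by
  obtain ⟨⟨x, hx⟩, rfl⟩ := Submodule.Quotient.mk_surjective _ z
  exact ⟨x, hx, rfl⟩

/-- The map of relative cohomology induced by a map of cochains. -/
def mapH {A B A' B' : Sys C} {p q : ℕ} (φ : C.X p →ₗ[k] C.X q) (h1 : ∀ x ∈ Zc A B p, φ x ∈ Zc A' B' q)
    (h2 : ∀ x ∈ Zc A B p, x ∈ Bd A B p → φ x ∈ Bd A' B' q) : Hc A B p →ₗ[k] Hc A' B' q :=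
  Submodule.mapQ _ _ (φ.restrict h1) fun x hx => h2 x x.2 hx

theorem mapH_cls {A B A' B' : Sys C} {p q : ℕ} (φ : C.X p →ₗ[k] C.X q) (h1 : ∀ x ∈ Zc A B p, φ x ∈ Zc A' B' q)
    (h2 : ∀ x ∈ Zc A B p, x ∈ Bd A B p → φ x ∈ Bd A' B' q) (x : C.X p) (hx : x ∈ Zc A B p) :
    mapH φ h1 h2 (cls x hx) = cls (φ x) (h1 x hx) := rfl

theorem Bd_t (A B : Sys C) : ∀ p x, x ∈ Bd A B p → C.t p x ∈ Bd A B p
  | 0, x, hx => A.t_mem 0 x hx
  | p + 1, x, hx => by
    obtain ⟨a, ha, _, ⟨y, hy, rfl⟩, rfl⟩ := Submodule.mem_sup.1 hx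
    rw [map_add, ← C.d_t]
    exact Submodule.add_mem_sup (A.t_mem _ a ha) ⟨_, B.t_mem p y hy, rfl⟩

/-- The endomorphism on relative cohomology. -/
def tH (A B : Sys C) (p : ℕ) : Hc A B p →ₗ[k] Hc A B p :=
  mapH (C.t p) (fun x hx => ⟨B.t_mem p x hx.1, by
      show C.d p (C.t p x) ∈ A.S (p + 1)
      rw [C.d_t]
      exact A.t_mem _ _ hx.2⟩)
    fun x _ hx => Bd_t A B p x hx

/-- Finiteness of relative cohomology. -/
def Good (A B : Sys C) : Prop :=
  (∀ p, FiniteDimensional k (Hc A B p)) ∧ ∃ N, ∀ p, N ≤ p → Subsingleton (Hc A B p)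

/-- The alternating trace. -/
noncomputable def chi (A B : Sys C) : k := ∑ᶠ p : ℕ, (-1 : k) ^ p * LinearMap.trace k _ (tH A B p)

theorem chi_eq_sum {A B : Sys C} {N : ℕ} (h : ∀ p, N ≤ p → Subsingleton (Hc A B p)) :
    chi A B = ∑ p ∈ Finset.range N, (-1 : k) ^ p * LinearMap.trace k _ (tH A B p) := by
  refine finsum_eq_sum_of_support_subset _ fun p hp => ?_
  by_contra hp'
  simp only [Finset.coe_range, Set.mem_Iio, not_lt] at hp'
  haveI := h p hp'
  refine hp ?_
  show (-1 : k) ^ p * _ = 0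
  rw [Subsingleton.elim (tH A B p) 0, map_zero, mul_zero]

section les

variable {A B E : Sys C}

/-- Enlarging the numerator. -/
def uH (hBE : B ≤ E) (p : ℕ) : Hc A B p →ₗ[k] Hc A E p :=
  mapH LinearMap.id (fun x hx => ⟨hBE p hx.1, hx.2⟩) fun x _ hx => by
    rcases p with _ | p
    · exact hx
    · exact (sup_le_sup_left (Submodule.map_mono (hBE p)) _ : Bd A B (p + 1) ≤ Bd A E (p + 1)) hx

/-- Enlarging the denominator. -/
def vH (hAB : A ≤ B) (p : ℕ) : Hc A E p →ₗ[k] Hc B E p :=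
  mapH LinearMap.id (fun x hx => ⟨hx.1, hAB _ hx.2⟩) fun x _ hx => by
    rcases p with _ | p
    · exact hAB 0 hx
    · exact (sup_le_sup_right (hAB (p + 1)) _ : Bd A E (p + 1) ≤ Bd B E (p + 1)) hx

/-- The connecting map. -/
def dH (p : ℕ) : Hc B E p →ₗ[k] Hc A B (p + 1) :=
  mapH (C.d p) (fun x hx => ⟨hx.2, by show C.d (p + 1) (C.d p x) ∈ A.S (p + 2); rw [C.d_d]; exact zero_mem _⟩)
    fun x _ hx => by
      rcases p with _ | p
      · exact d_mem_Bd A B hx
      · obtain ⟨b, hb, _, ⟨y, -, rfl⟩, rfl⟩ := Submodule.mem_sup.1 hx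
        rw [map_add, C.d_d, add_zero]
        exact d_mem_Bd A B hb

variable (hAB : A ≤ B) (hBE : B ≤ E)

theorem tH_uH (p : ℕ) (x : Hc A B p) : uH (A := A) hBE p (tH A B p x) = tH A E p (uH hBE p x) := by
  obtain ⟨x, hx, rfl⟩ := exists_cls x
  rfl

theorem tH_vH (p : ℕ) (x : Hc A E p) : vH (E := E) hAB p (tH A E p x) = tH B E p (vH hAB p x) := by
  obtain ⟨x, hx, rfl⟩ := exists_cls x
  rfl

theorem tH_dH (p : ℕ) (x : Hc B E p) : dH (A := A) p (tH B E p x) = tH A B (p + 1) (dH p x) := by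
  obtain ⟨x, hx, rfl⟩ := exists_cls x
  simp only [tH, dH, mapH_cls]
  exact congrArg _ (Subtype.ext (C.d_t p x))

include hAB hBE in
theorem exact_uv (p : ℕ) : range (uH (A := A) hBE p) = ker (vH (E := E) hAB p) := by
  refine le_antisymm ?_ fun z hz => ?_
  · rintro _ ⟨x, rfl⟩
    obtain ⟨x, hx, rfl⟩ := exists_cls x
    rw [LinearMap.mem_ker, uH, vH, mapH_cls, mapH_cls, cls_eq_zero]
    exact le_Bd B E p hx.1
  · obtain ⟨x, hx, rfl⟩ := exists_cls z
    rw [LinearMap.mem_ker, vH, mapH_cls, cls_eq_zero] at hz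
    rcases p with _ | p
    · exact ⟨cls x ⟨hz, hx.2⟩, rfl⟩
    · obtain ⟨b, hb, _, ⟨y, hy, rfl⟩, e⟩ := Submodule.mem_sup.1 hz
      simp only [LinearMap.id_coe, id_eq] at e
      subst e
      refine ⟨cls b ⟨hb, ?_⟩, ?_⟩
      · have : C.d (p + 1) (b + C.d p y) ∈ A.S (p + 1 + 1) := hx.2
        rw [map_add, C.d_d, add_zero] at this
        exact this
      · rw [uH, mapH_cls, cls_eq, LinearMap.id_coe, id_eq, sub_add_cancel_left]
        exact neg_mem (d_mem_Bd A E hy)

include hAB hBE in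
theorem exact_vd (p : ℕ) : range (vH (E := E) hAB p) = ker (dH (A := A) (B := B) (E := E) p) := by
  refine le_antisymm ?_ fun z hz => ?_
  · rintro _ ⟨x, rfl⟩
    obtain ⟨x, hx, rfl⟩ := exists_cls x
    rw [LinearMap.mem_ker, dH, vH, mapH_cls, mapH_cls, cls_eq_zero]
    exact le_Bd A B (p + 1) hx.2
  · obtain ⟨x, hx, rfl⟩ := exists_cls z
    rw [LinearMap.mem_ker, dH, mapH_cls, cls_eq_zero] at hz
    obtain ⟨a, ha, _, ⟨y, hy, rfl⟩, e⟩ := Submodule.mem_sup.1 hz
    refine ⟨cls (x - y) ⟨sub_mem hx.1 (hBE p hy), ?_⟩, ?_⟩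
    · show C.d p (x - y) ∈ A.S (p + 1)
      rw [map_sub, ← e, add_sub_cancel_right]
      exact ha
    · rw [vH, mapH_cls, cls_eq, LinearMap.id_coe, id_eq, sub_sub_cancel_left]
      exact neg_mem (le_Bd B E p hy)

include hAB hBE in
theorem exact_du (p : ℕ) : range (dH (A := A) (B := B) (E := E) p) = ker (uH (A := A) hBE (p + 1)) := by
  refine le_antisymm ?_ fun z hz => ?_
  · rintro _ ⟨x, rfl⟩
    obtain ⟨x, hx, rfl⟩ := exists_cls x
    rw [LinearMap.mem_ker, dH, uH, mapH_cls, mapH_cls, cls_eq_zero]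
    exact d_mem_Bd A E hx.1
  · obtain ⟨x, hx, rfl⟩ := exists_cls z
    rw [LinearMap.mem_ker, uH, mapH_cls, cls_eq_zero] at hz
    obtain ⟨a, ha, _, ⟨y, hy, rfl⟩, e⟩ := Submodule.mem_sup.1 hz
    simp only [LinearMap.id_coe, id_eq] at e
    subst e
    refine ⟨cls y ⟨hy, ?_⟩, ?_⟩
    · have := sub_mem hx.1 (hAB (p + 1) ha)
      rwa [add_sub_cancel_left] at this
    · rw [dH, mapH_cls, cls_eq, sub_add_cancel_right]
      exact neg_mem (le_Bd A B _ ha)

theorem uH_zero_injective : Function.Injective (uH (A := A) hBE 0) := by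
  rw [← LinearMap.ker_eq_bot, Submodule.eq_bot_iff]
  intro z hz
  obtain ⟨x, hx, rfl⟩ := exists_cls z
  rw [LinearMap.mem_ker, uH, mapH_cls, cls_eq_zero] at hz
  exact cls_eq_zero.2 hz

include hAB hBE in
theorem good_mid (h1 : Good A B) (h3 : Good B E) : Good A E := by
  refine ⟨fun p => ?_, ?_⟩
  · haveI := h1.1 p
    haveI := h3.1 p
    exact finite_of_exact (exact_uv hAB hBE p)
  · obtain ⟨N, hN⟩ := h1.2
    obtain ⟨M, hM⟩ := h3.2
    refine ⟨max N M, fun p hp => ⟨fun z w => ?_⟩⟩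
    haveI := hN p (le_of_max_le_left hp)
    haveI := hM p (le_of_max_le_right hp)
    have : ∀ z : Hc A E p, z = 0 := fun z => by
      obtain ⟨y, rfl⟩ : z ∈ range (uH (A := A) hBE p) := by
        rw [exact_uv hAB hBE p]; exact Subsingleton.elim _ _
      rw [Subsingleton.elim y 0, map_zero]
    rw [this z, this w]

include hAB hBE in
theorem good_left (h2 : Good A E) (h3 : Good B E) : Good A B := by
  refine ⟨fun p => ?_, ?_⟩
  · rcases p with _ | p
    · haveI := h2.1 0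
      exact FiniteDimensional.of_injective _ (uH_zero_injective (A := A) hBE)
    · haveI := h3.1 p
      haveI := h2.1 (p + 1)
      exact finite_of_exact (exact_du hAB hBE p)
  · obtain ⟨N, hN⟩ := h2.2
    obtain ⟨M, hM⟩ := h3.2
    refine ⟨max N M + 1, fun p hp => ⟨fun z w => ?_⟩⟩
    obtain ⟨p, rfl⟩ : ∃ q, p = q + 1 := ⟨p - 1, by omega⟩
    haveI := hN (p + 1) (by omega)
    haveI := hM p (by omega)
    have : ∀ z : Hc A B (p + 1), z = 0 := fun z => by
      obtain ⟨y, rfl⟩ : z ∈ range (dH (A := A) (B := B) (E := E) p) := by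
        rw [exact_du hAB hBE p]; exact Subsingleton.elim _ _
      rw [Subsingleton.elim y 0, map_zero]
    rw [this z, this w]

include hAB hBE in
theorem good_right (h1 : Good A B) (h2 : Good A E) : Good B E := by
  refine ⟨fun p => ?_, ?_⟩
  · haveI := h2.1 p
    haveI := h1.1 (p + 1)
    exact finite_of_exact (exact_vd hAB hBE p)
  · obtain ⟨N, hN⟩ := h1.2
    obtain ⟨M, hM⟩ := h2.2
    refine ⟨max N M, fun p hp => ⟨fun z w => ?_⟩⟩
    haveI := hN (p + 1) (by omega)
    haveI := hM p (by omega)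
    have : ∀ z : Hc B E p, z = 0 := fun z => by
      obtain ⟨y, rfl⟩ : z ∈ range (vH (E := E) hAB p) := by
        rw [exact_vd hAB hBE p]; exact Subsingleton.elim _ _
      rw [Subsingleton.elim y 0, map_zero]
    rw [this z, this w]

include hAB hBE in
theorem chi_add (h1 : Good A B) (h3 : Good B E) : chi A E = chi A B + chi B E := by
  have h2 := good_mid hAB hBE h1 h3
  obtain ⟨N1, hN1⟩ := h1.2
  obtain ⟨N2, hN2⟩ := h2.2
  obtain ⟨N3, hN3⟩ := h3.2
  set N := max N1 (max N2 N3)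
  haveI := h1.1
  haveI := h2.1
  haveI := h3.1
  have ru : ∀ p, ∀ z ∈ range (uH (A := A) hBE p), tH A E p z ∈ range (uH (A := A) hBE p) := by
    rintro p _ ⟨y, rfl⟩; exact ⟨_, tH_uH hBE p y⟩
  have rv : ∀ p, ∀ z ∈ range (vH (E := E) hAB p), tH B E p z ∈ range (vH (E := E) hAB p) := by
    rintro p _ ⟨y, rfl⟩; exact ⟨_, tH_vH hAB p y⟩
  have rd : ∀ p, ∀ z ∈ range (dH (A := A) (B := B) (E := E) p),
      tH A B (p + 1) z ∈ range (dH (A := A) (B := B) (E := E) p) := by
    rintro p _ ⟨y, rfl⟩; exact ⟨_, tH_dH p y⟩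
  let r1 : ℕ → k := fun p => LinearMap.trace k _ ((tH A E p).restrict (ru p))
  let r2 : ℕ → k := fun p => LinearMap.trace k _ ((tH B E p).restrict (rv p))
  let r3 : ℕ → k := fun p => LinearMap.trace k _ ((tH A B (p + 1)).restrict (rd p))
  have same : ∀ {V : Type v} [AddCommGroup V] [Module k V] (S : V →ₗ[k] V) {U U' : Submodule k V}
      (h : ∀ x ∈ U, S x ∈ U) (h' : ∀ x ∈ U', S x ∈ U'), U = U' →
      LinearMap.trace k U (S.restrict h) = LinearMap.trace k U' (S.restrict h') := by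
    intro V _ _ S U U' h h' e
    subst e
    rfl
  have hm2 : ∀ p, LinearMap.trace k _ (tH A E p) = r1 p + r2 p := fun p => by
    have hk : ∀ z ∈ ker (vH (E := E) hAB p), tH A E p z ∈ ker (vH (E := E) hAB p) := fun z hz => by
      rw [LinearMap.mem_ker, tH_vH, LinearMap.mem_ker.1 hz, map_zero]
    rw [trace_eq_ker_add_range (tH A E p) (tH B E p) _ (tH_vH hAB p) hk (rv p),
      same (tH A E p) hk (ru p) (exact_uv hAB hBE p).symm]
  have hm3 : ∀ p, LinearMap.trace k _ (tH B E p) = r2 p + r3 p := fun p => by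
    have hk : ∀ z ∈ ker (dH (A := A) (B := B) (E := E) p), tH B E p z ∈ ker (dH (A := A) (B := B) (E := E) p) :=
      fun z hz => by rw [LinearMap.mem_ker, tH_dH, LinearMap.mem_ker.1 hz, map_zero]
    rw [trace_eq_ker_add_range (tH B E p) (tH A B (p + 1)) _ (tH_dH p) hk (rd p),
      same (tH B E p) hk (rv p) (exact_vd hAB hBE p).symm]
  have hm1 : ∀ p, LinearMap.trace k _ (tH A B (p + 1)) = r3 p + r1 (p + 1) := fun p => by
    have hk : ∀ z ∈ ker (uH (A := A) hBE (p + 1)), tH A B (p + 1) z ∈ ker (uH (A := A) hBE (p + 1)) :=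
      fun z hz => by rw [LinearMap.mem_ker, tH_uH, LinearMap.mem_ker.1 hz, map_zero]
    rw [trace_eq_ker_add_range (tH A B (p + 1)) (tH A E (p + 1)) _ (tH_uH hBE (p + 1)) hk (ru (p + 1)),
      same (tH A B (p + 1)) hk (rd p) (exact_du hAB hBE p).symm]
  have hm0 : LinearMap.trace k _ (tH A B 0) = r1 0 := by
    have hk : ∀ z ∈ ker (uH (A := A) hBE 0), tH A B 0 z ∈ ker (uH (A := A) hBE 0) :=
      fun z hz => by rw [LinearMap.mem_ker, tH_uH, LinearMap.mem_ker.1 hz, map_zero]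
    rw [trace_eq_ker_add_range (tH A B 0) (tH A E 0) _ (tH_uH hBE 0) hk (ru 0)]
    haveI : Subsingleton (ker (uH (A := A) hBE 0)) := by
      rw [LinearMap.ker_eq_bot.2 (uH_zero_injective (A := A) hBE)]; infer_instance
    rw [Subsingleton.elim ((tH A B 0).restrict hk) 0, map_zero, zero_add]
  have hz : r3 N = 0 := by
    haveI := hN1 (N + 1) (by omega)
    show LinearMap.trace k _ _ = 0
    haveI : Subsingleton (range (dH (A := A) (B := B) (E := E) N)) := inferInstance
    rw [Subsingleton.elim ((tH A B (N + 1)).restrict (rd N)) 0, map_zero]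
  rw [chi_eq_sum (N := N + 1) fun p hp => hN1 p (by omega), chi_eq_sum (N := N + 1) fun p hp => hN2 p (by omega),
    chi_eq_sum (N := N + 1) fun p hp => hN3 p (by omega), ← Finset.sum_add_distrib]
  have key : ∀ M, ∑ p ∈ Finset.range (M + 1), ((-1 : k) ^ p * LinearMap.trace k _ (tH A B p) +
      (-1 : k) ^ p * LinearMap.trace k _ (tH B E p)) =
      ∑ p ∈ Finset.range (M + 1), (-1 : k) ^ p * LinearMap.trace k _ (tH A E p) + (-1 : k) ^ M * r3 M := by
    intro M
    induction M with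
    | zero => simp [hm0, hm2, hm3]; ring
    | succ M ih =>
      rw [Finset.sum_range_succ, ih, Finset.sum_range_succ _ (M + 1), hm1 M, hm2 (M + 1), hm3 (M + 1), pow_succ]
      ring
  rw [key N, hz, mul_zero, add_zero]

end les

/-- A nilpotent endomorphism has no trace. -/
theorem chi_eq_zero_of_nilpotent {A B : Sys C} (h : Good A B)
    (hn : ∀ p, ∀ x ∈ B.S p, ∃ m : ℕ, ((C.t p) ^ m) x ∈ A.S p) : chi A B = 0 := by
  refine finsum_eq_zero_of_forall_eq_zero fun p => ?_
  haveI := h.1 p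
  have key : ∀ (j : ℕ) (x : C.X p) (hx : x ∈ Zc A B p),
      ∃ hj, ((tH A B p) ^ j) (cls x hx) = cls (((C.t p) ^ j) x) hj := by
    intro j
    induction j with
    | zero => exact fun x hx => ⟨hx, rfl⟩
    | succ j ih =>
      intro x hx
      obtain ⟨hj, e⟩ := ih x hx
      refine ⟨?_, ?_⟩
      · rw [pow_succ', Module.End.mul_apply]
        exact ⟨B.t_mem p _ hj.1, by
          show C.d p (C.t p _) ∈ A.S (p + 1)
          rw [C.d_t]; exact A.t_mem _ _ hj.2⟩
      · rw [pow_succ', Module.End.mul_apply, e]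
        simp only [pow_succ', Module.End.mul_apply]
        rfl
  have hnil : IsNilpotent (tH A B p) := Module.End.isNilpotent_iff_of_finite.2 fun z => by
    obtain ⟨x, hx, rfl⟩ := exists_cls z
    obtain ⟨m, hm⟩ := hn p x hx.1
    obtain ⟨hj, e⟩ := key m x hx
    refine ⟨m, ?_⟩
    rw [e, cls_eq_zero]
    exact le_Bd A B p hm
  rw [(LinearMap.isNilpotent_trace_of_isNilpotent hnil).eq_zero, mul_zero]

section modular

variable (A B : Sys C)

/-- The modular isomorphism. -/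
def modH (p : ℕ) : Hc (A ⊓ B) A p →ₗ[k] Hc B (A ⊔ B) p :=
  mapH LinearMap.id (fun x hx => ⟨Submodule.mem_sup_left hx.1, hx.2.2⟩) fun x _ hx => by
    rcases p with _ | p
    · exact hx.2
    · obtain ⟨a, ha, _, ⟨y, hy, rfl⟩, rfl⟩ := Submodule.mem_sup.1 hx
      exact Submodule.add_mem_sup ha.2 ⟨y, Submodule.mem_sup_left hy, rfl⟩

theorem modH_bijective (p : ℕ) : Function.Bijective (modH A B p) := by
  constructor
  · rw [← LinearMap.ker_eq_bot, Submodule.eq_bot_iff]
    intro z hz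
    obtain ⟨x, hx, rfl⟩ := exists_cls z
    rw [LinearMap.mem_ker, modH, mapH_cls, cls_eq_zero] at hz
    rw [cls_eq_zero]
    rcases p with _ | p
    · exact ⟨hx.1, hz⟩
    · obtain ⟨b, hb, _, ⟨y, hy, rfl⟩, e⟩ := Submodule.mem_sup.1 hz
      obtain ⟨ya, hya, yb, hyb, rfl⟩ := Submodule.mem_sup.1 hy
      simp only [LinearMap.id_coe, id_eq] at e
      rw [map_add, add_comm (C.d p ya), ← add_assoc] at e
      subst e
      refine Submodule.add_mem_sup ⟨?_, add_mem hb (B.d_mem p yb hyb)⟩ ⟨ya, hya, rfl⟩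
      have := sub_mem hx.1 (A.d_mem p ya hya)
      rwa [add_sub_cancel_right] at this
  · intro z
    obtain ⟨x, hx, rfl⟩ := exists_cls z
    obtain ⟨a, ha, b, hb, rfl⟩ := Submodule.mem_sup.1 hx.1
    refine ⟨cls a ⟨ha, A.d_mem p a ha, ?_⟩, ?_⟩
    · have := sub_mem (show C.d p (a + b) ∈ B.S (p + 1) from hx.2) (B.d_mem p b hb)
      rw [map_add, add_sub_cancel_right] at this
      exact this
    · rw [modH, mapH_cls, cls_eq, LinearMap.id_coe, id_eq, sub_add_cancel_left]
      exact neg_mem (le_Bd B (A ⊔ B) p hb)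

theorem good_modular (h : Good (A ⊓ B) A) : Good B (A ⊔ B) := by
  refine ⟨fun p => ?_, ?_⟩
  · haveI := h.1 p
    exact (LinearEquiv.ofBijective _ (modH_bijective A B p)).finiteDimensional
  · obtain ⟨N, hN⟩ := h.2
    exact ⟨N, fun p hp => by
      haveI := hN p hp
      exact (LinearEquiv.ofBijective _ (modH_bijective A B p)).symm.toEquiv.subsingleton⟩

theorem chi_modular (h : Good (A ⊓ B) A) : chi B (A ⊔ B) = chi (A ⊓ B) A := by
  refine finsum_congr fun p => ?_
  let e := LinearEquiv.ofBijective _ (modH_bijective A B p)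
  haveI := h.1 p
  have : tH B (A ⊔ B) p = e.conj (tH (A ⊓ B) A p) := by
    refine LinearMap.ext fun z => ?_
    obtain ⟨y, rfl⟩ := e.surjective z
    obtain ⟨x, hx, rfl⟩ := exists_cls y
    rw [LinearEquiv.conj_apply_apply, LinearEquiv.symm_apply_apply]
    rfl
  rw [this, LinearMap.trace_conj']

end modular

end GrothLib.FrobTrace28
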