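import Groth.Agent.Lib.FrobTrace28.Principal
import Groth.Agent.Lib.Zeta.Spaces
import Mathlib.FieldTheory.Finite.Basic

/-!
# Rational points where a homogeneous polynomial does not vanish
-/

set_option autoImplicit false
set_option linter.all false

universe u

noncomputable section

namespace GrothLib.FrobTrace28

open GrothLib.ProjCohom MvPolynomial

variable {n : ℕ} {k : Type u} [Field k]

section Fin

variable [Fintype k]

theorem sum_pow_eq_ite (e : ℕ) :
    ∑ x : k, x ^ e = if e ≠ 0 ∧ (Fintype.card k - 1) ∣ e then -1 else 0 := by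
  classical
  have h1 : 1 < Fintype.card k := Fintype.one_lt_card
  by_cases he : e = 0
  · subst he
    rw [if_neg (fun h => h.1 rfl)]
    simp
  · have hu := FiniteField.sum_pow_units k e
    rw [← Finset.sum_erase_add _ _ (Finset.mem_univ (0 : k)), zero_pow he, add_zero]
    rw [show ∑ x ∈ Finset.univ.erase (0 : k), x ^ e = ∑ x : kˣ, ((x : k) ^ e) from ?_]
    · rw [hu]
      by_cases hd : (Fintype.card k - 1) ∣ e
      · rw [if_pos hd, if_pos ⟨he, hd⟩]
      · rw [if_neg hd, if_neg (fun h => hd h.2)]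
    · refine (Finset.sum_bij (fun (x : kˣ) _ => (x : k)) ?_ ?_ ?_ ?_).symm
      · intro x _; simp
      · intro x _ y _ h; exact Units.ext h
      · intro x hx; exact ⟨Units.mk0 x (Finset.ne_of_mem_erase hx), Finset.mem_univ _, rfl⟩
      · intro x _; rfl

theorem sum_eval_monomial (s : Fin (n + 1) →₀ ℕ) (r : k) :
    ∑ x : Fin (n + 1) → k, eval x (monomial s r) =
      r * if ∀ i, s i ≠ 0 ∧ (Fintype.card k - 1) ∣ s i then (-1) ^ (n + 1) else 0 := by
  classical
  simp only [eval_monomial, Finsupp.prod_fintype _ _ (fun _ => pow_zero _), ← Finset.mul_sum]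
  congr 1
  rw [← Fintype.prod_sum (fun i (a : k) => a ^ s i)]
  simp only [sum_pow_eq_ite]
  by_cases h : ∀ i, s i ≠ 0 ∧ (Fintype.card k - 1) ∣ s i
  · rw [if_pos h, Finset.prod_congr rfl fun i _ => if_pos (h i)]
    simp
  · rw [if_neg h]
    obtain ⟨i, hi⟩ := not_forall.1 h
    exact Finset.prod_eq_zero (Finset.mem_univ i) (if_neg hi)

theorem sum_eval_eq {δ : ℕ} (G : MvPolynomial (Fin (n + 1)) k)
    (hG : G.IsHomogeneous ((Fintype.card k - 1) * δ)) :
    ∑ x : Fin (n + 1) → k, eval x G =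
      (-1) ^ (n + 1) * ∑ b ∈ negBox n δ, (toL n k G).coeff (b - (Fintype.card k : ℤ) • b) := by
  classical
  have h1 : 1 < Fintype.card k := Fintype.one_lt_card
  set q : ℕ := Fintype.card k with hq
  have hL : ∑ x : Fin (n + 1) → k, eval x G = ∑ s ∈ G.support,
      if ∀ i, s i ≠ 0 ∧ (q - 1) ∣ s i then (-1) ^ (n + 1) * coeff s G else 0 := by
    conv_lhs => rw [G.as_sum]
    simp only [map_sum]
    rw [Finset.sum_comm]
    refine Finset.sum_congr rfl fun s _ => ?_
    rw [sum_eval_monomial]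
    split_ifs
    · rw [mul_comm]
    · rw [mul_zero]
  rw [hL, ← Finset.sum_filter, ← Finset.mul_sum]
  congr 1
  let φ : (Fin (n + 1) →₀ ℕ) → Ex n := fun s i => -((s i / (q - 1) : ℕ) : ℤ)
  let ψ : Ex n → (Fin (n + 1) →₀ ℕ) := fun b => Finsupp.equivFunOnFinite.symm fun i => (q - 1) * (-(b i)).toNat
  have hψ : ∀ b ∈ negBox n δ, (fun i => ((ψ b i : ℕ) : ℤ)) = b - (q : ℤ) • b := by
    intro b hb
    funext i
    have := (mem_negBox.1 hb).2 i
    simp only [ψ, Finsupp.equivFunOnFinite_symm_apply_apply, Pi.sub_apply, Pi.smul_apply, smul_eq_mul]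
    rw [Nat.cast_mul, Int.toNat_of_nonneg (by omega), Nat.cast_sub h1.le]
    push_cast; ring
  have hc : ∀ b ∈ negBox n δ, (toL n k G).coeff (b - (q : ℤ) • b) = coeff (ψ b) G := by
    intro b hb
    rw [← hψ b hb]
    show (AddMonoidAlgebra.mapDomain _ G).coeff _ = _
    exact Finsupp.mapDomain_apply
      (fun a c h => Finsupp.ext fun i => Int.ofNat.inj (congrFun h i)) _ (ψ b)
  rw [Finset.sum_congr rfl hc]
  refine Finset.sum_bij_ne_zero (fun s _ _ => φ s) ?_ ?_ ?_ ?_
  · intro s hs _
    obtain ⟨hs, hcond⟩ := Finset.mem_filter.1 hs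
    refine mem_negBox.2 ⟨?_, fun i => ?_⟩
    · have hdeg : ∑ i, s i = (q - 1) * δ := by
        have := hG (MvPolynomial.mem_support_iff.1 hs)
        rw [← this, Finsupp.weight_apply, Finsupp.sum_fintype _ _ (fun _ => by simp)]
        simp
      have h2 : (q - 1) * ∑ i, s i / (q - 1) = (q - 1) * δ := by
        rw [Finset.mul_sum, ← hdeg]
        exact Finset.sum_congr rfl fun i _ => Nat.mul_div_cancel' (hcond i).2
      have h3 := Nat.eq_of_mul_eq_mul_left (by omega) h2
      simp only [φ, Finset.sum_neg_distrib]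
      rw [← Nat.cast_sum, h3]
    · obtain ⟨h0, hd⟩ := hcond i
      have : 0 < s i / (q - 1) := Nat.div_pos (Nat.le_of_dvd (by omega) hd) (by omega)
      simp only [φ]
      omega
  · intro s hs _ s' hs' _ e
    refine Finsupp.ext fun i => ?_
    have e' := congrFun e i
    simp only [φ, neg_inj, Nat.cast_inj] at e'
    rw [← Nat.mul_div_cancel' ((Finset.mem_filter.1 hs).2 i).2, ← Nat.mul_div_cancel' ((Finset.mem_filter.1 hs').2 i).2, e']
  · intro b hb hne
    have hv : ∀ i, ψ b i = (q - 1) * (-(b i)).toNat := fun i => rfl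
    refine ⟨ψ b, Finset.mem_filter.2 ⟨MvPolynomial.mem_support_iff.2 hne, fun i => ?_⟩, hne, ?_⟩
    · have := (mem_negBox.1 hb).2 i
      rw [hv]
      exact ⟨Nat.mul_ne_zero (by omega) (by omega), dvd_mul_right _ _⟩
    · funext i
      have := (mem_negBox.1 hb).2 i
      simp only [φ]
      rw [hv, Nat.mul_div_cancel_left _ (by omega : 0 < q - 1), Int.toNat_of_nonneg (by omega)]
      ring
  · intro s hs _
    congr 1
    refine Finsupp.ext fun i => ?_
    show s i = (q - 1) * (-(-((s i / (q - 1) : ℕ) : ℤ))).toNat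
    rw [neg_neg, Int.toNat_natCast, Nat.mul_div_cancel' ((Finset.mem_filter.1 hs).2 i).2]

/-- Lines through the origin and their normalised representatives. -/
def unitsCoordsEquiv :
    ((Σ i : Fin (n + 1), GrothLib.Zeta.Coords k n i) × kˣ) → { x : Fin (n + 1) → k // x ≠ 0 } :=
  fun p => ⟨fun l => (p.2 : k) * p.1.2.1 l, fun h => by
    have := congrFun h p.1.1
    simp only [Pi.zero_apply, p.1.2.2.1, mul_one] at this
    exact p.2.ne_zero this⟩

theorem unitsCoordsEquiv_bijective : Function.Bijective (unitsCoordsEquiv (n := n) (k := k)) := by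
  classical
  constructor
  · rintro ⟨⟨i, v⟩, c⟩ ⟨⟨j, w⟩, d⟩ h
    have h' : ∀ l, (c : k) * v.1 l = (d : k) * w.1 l := fun l => congrFun (congrArg Subtype.val h) l
    have key : ∀ l, v.1 l = 0 ↔ w.1 l = 0 := fun l => by
      constructor
      · intro e
        have := h' l
        rw [e, mul_zero] at this
        exact (mul_eq_zero.1 this.symm).resolve_left d.ne_zero
      · intro e
        have := h' l
        rw [e, mul_zero] at this
        exact (mul_eq_zero.1 this).resolve_left c.ne_zero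
    have hij : i = j := by
      rcases lt_trichotomy i j with h1 | h1 | h1
      · exact absurd ((key i).2 (w.2.2 i h1)) (by rw [v.2.1]; exact one_ne_zero)
      · exact h1
      · exact absurd ((key j).1 (v.2.2 j h1)) (by rw [w.2.1]; exact one_ne_zero)
    subst hij
    have hc : c = d := Units.ext (by simpa [v.2.1, w.2.1] using h' i)
    subst hc
    obtain rfl : v = w := Subtype.ext (funext fun l => mul_left_cancel₀ c.ne_zero (h' l))
    rfl
  · rintro ⟨x, hx⟩
    have hne : ∃ l, x l ≠ 0 := Function.ne_iff.1 hx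
    obtain ⟨i, hi, hmin⟩ : ∃ i, x i ≠ 0 ∧ ∀ l < i, x l = 0 := by
      obtain ⟨i, hi⟩ := (Finset.univ.filter fun l => x l ≠ 0).exists_min_image id
        ⟨hne.choose, Finset.mem_filter.mpr ⟨Finset.mem_univ _, hne.choose_spec⟩⟩
      exact ⟨i, (Finset.mem_filter.mp hi.1).2, fun l hl => by_contra fun h =>
        absurd (hi.2 l (Finset.mem_filter.mpr ⟨Finset.mem_univ _, h⟩)) (not_le.mpr hl)⟩
    refine ⟨⟨⟨i, fun l => (x i)⁻¹ * x l, inv_mul_cancel₀ hi, fun l hl => by show (x i)⁻¹ * x l = 0; rw [hmin l hl, mul_zero]⟩,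
      Units.mk0 _ hi⟩, Subtype.ext (funext fun l => ?_)⟩
    show x i * ((x i)⁻¹ * x l) = x l
    rw [← mul_assoc, mul_inv_cancel₀ hi, one_mul]

open Classical in
theorem card_ne_zero_eq {δ : ℕ} (hδ : 1 ≤ δ) (g : MvPolynomial (Fin (n + 1)) k) (hg : g.IsHomogeneous δ) :
    ((Finset.univ.filter fun s : Σ i : Fin (n + 1), GrothLib.Zeta.Coords k n i => eval s.2.1 g ≠ 0).card : k) =
      (-1) ^ n * ∑ b ∈ negBox n δ,
        (toL n k (g ^ (Fintype.card k - 1))).coeff (b - (Fintype.card k : ℤ) • b) := by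
  have h1 : 1 < Fintype.card k := Fintype.one_lt_card
  set q : ℕ := Fintype.card k with hq
  have hG : (g ^ (q - 1)).IsHomogeneous ((q - 1) * δ) := by rw [mul_comm]; exact hg.pow _
  have hS := sum_eval_eq (δ := δ) (g ^ (q - 1)) hG
  have h0 : eval (0 : Fin (n + 1) → k) (g ^ (q - 1)) = 0 := by
    have h := GrothLib.Zeta.eval₂_mul_of_isHomogeneous (RingHom.id k) (0 : Fin (n + 1) → k) 0 hG
    simp only [Pi.zero_apply, mul_zero, zero_pow (Nat.mul_ne_zero (by omega : q - 1 ≠ 0) (by omega : δ ≠ 0)), zero_mul] at h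
    exact h
  have hscale : ∀ (c : kˣ) (v : Fin (n + 1) → k),
      eval (fun l => (c : k) * v l) (g ^ (q - 1)) = eval v (g ^ (q - 1)) := fun c v => by
    have h := GrothLib.Zeta.eval₂_mul_of_isHomogeneous (RingHom.id k) v (c : k) hG
    refine Eq.trans h ?_
    rw [pow_mul, FiniteField.pow_card_sub_one_eq_one (c : k) c.ne_zero, one_pow, one_mul]
    rfl
  have hind : ∀ v : Fin (n + 1) → k, eval v (g ^ (q - 1)) = if eval v g ≠ 0 then 1 else 0 := fun v => by
    rw [map_pow]
    split_ifs with h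
    · exact FiniteField.pow_card_sub_one_eq_one _ h
    · rw [not_not.1 h, zero_pow (by omega)]
  have hsplit : ∑ x : Fin (n + 1) → k, eval x (g ^ (q - 1)) =
      -((Finset.univ.filter fun s : Σ i : Fin (n + 1), GrothLib.Zeta.Coords k n i => eval s.2.1 g ≠ 0).card : k) := by
    rw [← Finset.add_sum_erase _ _ (Finset.mem_univ (0 : Fin (n + 1) → k)), h0, zero_add,
      Finset.sum_subtype (p := fun x : Fin (n + 1) → k => x ≠ 0) (Finset.univ.erase 0) (fun x => by simp)
        (fun x => eval x (g ^ (q - 1))),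
      ← (Equiv.ofBijective _ (unitsCoordsEquiv_bijective (n := n) (k := k))).sum_comp,
      Fintype.sum_prod_type]
    have hin : ∀ s : Σ i : Fin (n + 1), GrothLib.Zeta.Coords k n i,
        ∑ c : kˣ, eval ((Equiv.ofBijective _ (unitsCoordsEquiv_bijective (n := n) (k := k))) (s, c)).1 (g ^ (q - 1)) =
          -(if eval s.2.1 g ≠ 0 then 1 else 0) := fun s => by
      show ∑ c : kˣ, eval (fun l => (c : k) * s.2.1 l) (g ^ (q - 1)) = _
      rw [Finset.sum_congr rfl fun c _ => (hscale c s.2.1).trans (hind s.2.1), Finset.sum_const, Finset.card_univ,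
        Fintype.card_units, nsmul_eq_mul, Nat.cast_sub h1.le, FiniteField.cast_card_eq_zero, Nat.cast_one,
        zero_sub, neg_one_mul]
    rw [Finset.sum_congr rfl fun s _ => hin s, Finset.sum_neg_distrib, Finset.sum_boole]
  rw [hS] at hsplit
  have := congrArg Neg.neg hsplit
  rw [neg_neg] at this
  rw [← this, pow_succ]
  ring

end Fin

end GrothLib.FrobTrace28
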