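import Groth.Agent.Lib.FrobTrace28.Bridge
import Groth.Agent.Lib.FrobTrace28.Point
import Groth.Agent.Lib.RedSub.Basic
import Groth.Agent.Lib.GVanish.Main
import Groth.Prelude.Def_SgaExt

/-!
# The trace formula for closed subschemes of projective space
-/

set_option autoImplicit false
set_option linter.all false
set_option backward.isDefEq.respectTransparency false

universe u

set_option maxHeartbeats 400000

open AlgebraicGeometry CategoryTheory CategoryTheory.Limits TopologicalSpace Opposite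

noncomputable section

namespace GrothLib.FrobTrace28

open GrothLib.ProjCohom

variable {n : ℕ} {k : Type u} [Field k] [Finite k]

local notation "P" => Proj (CohB1.polyGrading n k)

theorem isProper_ts : IsProper (ts n k) := Chow.isProper_toSpec n k

theorem isProper_over {Y : Scheme.{u}} [Y.Over (Spec (CommRingCat.of k))] (ι : Y ⟶ P) [IsClosedImmersion ι]
    (hf : ι ≫ ts n k = Y ↘ Spec (CommRingCat.of k)) : IsProper (Y ↘ Spec (CommRingCat.of k)) := by
  rw [← hf]
  haveI := isProper_ts (n := n) (k := k)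
  exact MorphismProperty.comp_mem _ _ _ inferInstance inferInstance

theorem iSup_V {Y : Scheme.{u}} (ι : Y ⟶ P) : iSup (V ι) = ⊤ := by
  refine top_le_iff.1 fun y _ => ?_
  obtain ⟨i, hi⟩ := TopologicalSpace.Opens.mem_iSup.1
    ((GrothLib.Zeta.iSup_basicOpen (n := n) k).ge (Set.mem_univ (ι y)))
  exact TopologicalSpace.Opens.mem_iSup.2 ⟨ULift.up i, hi⟩

theorem isAffine_V {Y : Scheme.{u}} (ι : Y ⟶ P) [IsClosedImmersion ι] (p : ℕ)
    (a : Fin (p + 1) → ULift.{u} (Fin (n + 1))) : IsAffineOpen (⨅ j, V ι (a j)) := by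
  have h : BCCoh.W (V ι) a = ⨅ j, V ι (a j) := Cech.obj_eq_iInf _ _
  rw [← h, W_eq]
  exact (isAffineOpen_Dt (dn a)).preimage ι

/-- Cohomology of the structure sheaf through cochains of projective space. -/
theorem exists_hh_equiv {Y : Scheme.{u}} [Y.Over (Spec (CommRingCat.of k))] (ι : Y ⟶ P) [IsClosedImmersion ι]
    (hf : ι ≫ ts n k = Y ↘ Spec (CommRingCat.of k)) (p : ℕ) :
    ∃ E : Hc (famK ι).sys (all0 n k).sys p ≃ₗ[k] Coh.HH Y (Coh.structureModule Y) p,
      ∀ φ : Coh.toAb (Coh.structureModule Y) ⟶ Coh.toAb (Coh.structureModule Y),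
        (∀ (U : Y.Opens) (s : Γ(Y, U)), (φ.hom.app (Opposite.op U)).hom s = s ^ Nat.card k) →
        ∀ z, E (tH _ _ p z) = Sheaf.H.map φ p (E z) := by
  set f := Y ↘ Spec (CommRingCat.of k)
  have hQ : (Coh.structureModule Y).IsQuasicoherent := inferInstance
  have hac : Cech.Acyc (𝟭 (Opens Y.carrier)) (V ι) (Coh.toAb (Coh.structureModule Y)) :=
    Cech.acyc_of_HU _ _ _ fun m a q => by
      haveI := hQ
      have := Cohom.subsingleton_ext_freeFun_of_isAffineOpen (isAffine_V ι m a) (Coh.structureModule Y) q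
      rw [← Cech.obj_eq_iInf] at this
      exact @Equiv.subsingleton _ _ (SheafCoh.HUext _ _ _).toEquiv this
  obtain ⟨e₀, he₀⟩ := CechNat.exists_natural_equiv (X := Y.carrier) (V ι) (iSup_V ι) p
  let e : Coh.HH Y (Coh.structureModule Y) p ≃+ (BCCoh.cx f (V ι) (Coh.structureModule Y)).homology p :=
    (e₀ (Coh.toAb (Coh.structureModule Y)) hac).trans (BCCoh.forgH f (V ι) (Coh.structureModule Y) p).symm
  have he : ∀ (r : k) (x : Coh.HH Y (Coh.structureModule Y) p), e (r • x) = r • e x := by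
    intro r x
    apply (BCCoh.forgH f (V ι) (Coh.structureModule Y) p).injective
    have h1 := he₀ (Coh.smulAb (Coh.structureModule Y) (Coh.toGlobal f r)) hac hac x
    have h2 := BCCoh.forgH_natural f (V ι) (r • 𝟙 (BCCoh.cx f (V ι) (Coh.structureModule Y)))
      ((CechNat.cxO (V ι)).map (Coh.smulAb (Coh.structureModule Y) (Coh.toGlobal f r)))
      (fun m z => BCCoh.coord_smul f (V ι) (Coh.structureModule Y) r m z) p
      ((BCCoh.forgH f (V ι) (Coh.structureModule Y) p).symm (e₀ (Coh.toAb (Coh.structureModule Y)) hac x))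
    have h3 : HomologicalComplex.homologyMap (r • 𝟙 (BCCoh.cx f (V ι) (Coh.structureModule Y))) p =
        r • 𝟙 ((BCCoh.cx f (V ι) (Coh.structureModule Y)).homology p) := by
      refine (ShortComplex.homologyMap_smul (φ := 𝟙 ((BCCoh.cx f (V ι) (Coh.structureModule Y)).sc p)) r).trans ?_
      rw [ShortComplex.homologyMap_id]
      rfl
    rw [AddEquiv.apply_symm_apply, h3] at h2
    show BCCoh.forgH f (V ι) _ p ((BCCoh.forgH f (V ι) _ p).symm (e₀ _ _ (r • x))) =
      BCCoh.forgH f (V ι) _ p (r • _)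
    rw [AddEquiv.apply_symm_apply]
    exact h1.trans h2.symm
  let eL : Coh.HH Y (Coh.structureModule Y) p ≃ₗ[k] (BCCoh.cx f (V ι) (Coh.structureModule Y)).homology p :=
    { e with map_smul' := he }
  refine ⟨(thetaEquiv ι f hf p).trans eL.symm, fun φ hφ z => ?_⟩
  apply eL.injective
  rw [LinearEquiv.trans_apply, LinearEquiv.apply_symm_apply, thetaEquiv_t]
  have hcoord : ∀ (m : ℕ) (x : ((CechNat.cxO (V ι)).obj (Coh.toAb (Coh.structureModule Y))).X m),
      BCCoh.coord f (V ι) (Coh.structureModule Y) m (((CechNat.cxO (V ι)).map φ).f m x) =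
        (frobCx ι f).f m (BCCoh.coord f (V ι) (Coh.structureModule Y) m x) := fun m x => funext fun a =>
    (Cech.ev_map (𝟭 (Opens Y.carrier)) (V ι) φ a x).trans (hφ _ _)
  have h2 := BCCoh.forgH_natural f (V ι) (frobCx ι f) ((CechNat.cxO (V ι)).map φ) hcoord p
    (thetaEquiv ι f hf p z)
  show _ = e (Sheaf.H.map φ p (eL.symm (thetaEquiv ι f hf p z)))
  have h4 : e (eL.symm (thetaEquiv ι f hf p z)) = thetaEquiv ι f hf p z :=
    eL.apply_symm_apply _
  generalize eL.symm (thetaEquiv ι f hf p z) = w at h4 ⊢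
  apply (BCCoh.forgH f (V ι) (Coh.structureModule Y) p).injective
  rw [h2, ← h4]
  refine Eq.trans ?_ (AddEquiv.apply_symm_apply _ _).symm
  refine (congrArg (HomologicalComplex.homologyMap ((CechNat.cxO (V ι)).map φ) p)
    (AddEquiv.apply_symm_apply _ _)).trans ?_
  exact (he₀ φ hac hac w).symm

theorem good_famK {Y : Scheme.{u}} (ι : Y ⟶ P) [IsClosedImmersion ι] :
    Good (famK ι).sys (all0 n k).sys := by
  letI : Y.Over (Spec (CommRingCat.of k)) := ⟨ι ≫ ts n k⟩
  haveI := isProper_over ι rfl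
  haveI := Euler.isNoetherian_of_proper (X := Y) k
  have hC : Coh.IsCoh (Coh.structureModule Y) := Euler.isCoh_of_isInvertible Euler.isInvertible_structure
  choose E hE using fun p => exists_hh_equiv ι (rfl : ι ≫ ts n k = Y ↘ Spec (CommRingCat.of k)) p
  refine ⟨fun p => ?_, ?_⟩
  · haveI := Euler.finiteDimensional_HH k hC p
    exact (E p).symm.finiteDimensional
  · obtain ⟨N, hN⟩ := Euler.exists_bound (X := Y) k
    refine ⟨N, fun p hp => ?_⟩
    haveI := hC.1
    haveI := hN (Coh.structureModule Y) p hp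
    exact (E p).toEquiv.subsingleton

theorem famK_le_famZ {Y : Scheme.{u}} (ι : Y ⟶ P) [IsClosedImmersion ι] :
    (famK ι).sys ≤ (famZ (Set.range ι)).sys :=
  Fam.sys_le fun {p} t => by
    rintro _ ⟨s, hs, rfl⟩
    refine ⟨s, (mem_IZ s).2 ?_, rfl⟩
    rintro _ ⟨y, rfl⟩ hy
    rw [SetLike.mem_coe, RingHom.mem_ker] at hs
    have h := Scheme.basicOpen_appLE ι (BCCoh.W (V ι) (fun j => ULift.up.{u} (t j)))
      (Dt k t) (W_eq ι _).le s
    rw [show (ι.appLE (Dt k t) (BCCoh.W (V ι) (fun j => ULift.up.{u} (t j))) (W_eq ι _).le) s = 0 from hs,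
      Scheme.basicOpen_zero] at h
    have hy' : y ∈ BCCoh.W (V ι) (fun j => ULift.up.{u} (t j)) :=
      (W_eq ι _).ge ((P).basicOpen_le s hy)
    exact (h.ge ⟨hy', hy⟩).elim

theorem famZ_le_famK {Y : Scheme.{u}} [IsReduced Y] (ι : Y ⟶ P) [IsClosedImmersion ι] :
    (famZ (Set.range ι)).sys ≤ (famK ι).sys :=
  Fam.sys_le fun {p} t => by
    rintro _ ⟨s, hs, rfl⟩
    refine ⟨s, ?_, rfl⟩
    rw [SetLike.mem_coe, RingHom.mem_ker, ← basicOpen_eq_bot_iff]
    refine (Scheme.basicOpen_appLE ι _ _ (W_eq ι _).le s).trans (bot_unique ?_)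
    rintro y ⟨-, hy⟩
    exact (mem_IZ s).1 hs _ ⟨y, rfl⟩ hy

theorem exists_pow_famK {Y : Scheme.{u}} (ι : Y ⟶ P) [IsClosedImmersion ι] {p : ℕ}
    (x : (LC n k).X p) (hx : x ∈ (famZ (Set.range ι)).sys.S p) :
    ∃ m : ℕ, (((LC n k).t p) ^ m) x ∈ (famK ι).sys.S p := by
  refine exists_pow_sys x fun t => ?_
  obtain ⟨s, hs, e⟩ := (Fam.mem_sys _ x).1 hx t
  have haff : IsAffineOpen (BCCoh.W (V ι) (fun j => ULift.up.{u} (t j))) := by
    rw [W_eq]
    exact (isAffineOpen_Dt t).preimage ι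
  obtain ⟨N, hN⟩ : IsNilpotent (rho ι (fun j => ULift.up.{u} (t j)) s) := by
    rw [Scheme.isNilpotent_iff_basicOpen_eq_bot_of_isCompact haff.isCompact]
    refine (Scheme.basicOpen_appLE ι _ _ (W_eq ι _).le s).trans (bot_unique ?_)
    rintro y ⟨-, hy⟩
    exact (mem_IZ s).1 hs _ ⟨y, rfl⟩ hy
  refine ⟨N, fun i hi => ⟨s ^ Nat.card k ^ i, ?_, by rw [map_pow, e]⟩⟩
  rw [SetLike.mem_coe, RingHom.mem_ker, map_pow]
  exact pow_eq_zero_of_le (hi.trans (Nat.lt_pow_self Finite.one_lt_card).le) hN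

theorem bot_sys_le (A : Sys (LC n k)) : (bot n k).sys ≤ A := fun p x hx => by
  rw [show x = 0 from funext fun t => (Submodule.mem_bot k).1 (hx t trivial)]
  exact zero_mem _

theorem Sys.antisymm {C : TCx.{u, u} k} {A B : Sys C} (h : A ≤ B) (h' : B ≤ A) : A = B :=
  Sys.ext fun p x => ⟨fun hx => h p hx, fun hx => h' p hx⟩

theorem good_famZ_all0 {Z : Set ↥(P)} (hZ : IsClosed Z) : Good (famZ Z).sys (all0 n k).sys := by
  let I := Scheme.IdealSheafData.vanishingIdeal (⟨Z, hZ⟩ : Closeds ↥(P))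
  haveI : IsReduced I.subscheme := RedSub.isReduced_subscheme_vanishingIdeal _
  have h := good_famK I.subschemeι
  rwa [Sys.antisymm (famK_le_famZ I.subschemeι) (famZ_le_famK I.subschemeι),
    RedSub.range_subschemeι_vanishingIdeal] at h

theorem good_bot_all0 : Good (bot n k).sys (all0 n k).sys := by
  rw [← famZ_univ]
  exact good_famZ_all0 isClosed_univ

theorem good_bot_famZ {Z : Set ↥(P)} (hZ : IsClosed Z) : Good (bot n k).sys (famZ Z).sys :=
  good_left (bot_sys_le _) (famZ_le_all0 Z) good_bot_all0 (good_famZ_all0 hZ)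

variable (n k) in
/-- The point with given normalised coordinates. -/
def pt (s : Σ i : Fin (n + 1), GrothLib.Zeta.Coords k n i) : ↥(P) :=
  GrothLib.Zeta.chartPt k k (GrothLib.Zeta.coordsHom (k := k) k s.2) default

theorem pt_mem_iff {δ : ℕ} (hδ : 1 ≤ δ) {g : MvPolynomial (Fin (n + 1)) k}
    (hg : g ∈ CohB1.polyGrading n k δ) (s : Σ i : Fin (n + 1), GrothLib.Zeta.Coords k n i) :
    pt n k s ∈ Proj.basicOpen (CohB1.polyGrading n k) g ↔ MvPolynomial.eval s.2.1 g ≠ 0 := by
  obtain ⟨i, v⟩ := s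
  have h := Proj.awayι_preimage_basicOpen (CohB1.polyGrading n k) (GrothLib.Zeta.X_mem k n i) Nat.one_pos hg hδ
  let e : HomogeneousLocalization.Away (CohB1.polyGrading n k) (MvPolynomial.X i) :=
    HomogeneousLocalization.Away.isLocalizationElem (GrothLib.Zeta.X_mem k n i) hg
  let z : ↥(Spec (CommRingCat.of (HomogeneousLocalization.Away (CohB1.polyGrading n k) (MvPolynomial.X i)))) :=
    Spec.map (CommRingCat.ofHom (GrothLib.Zeta.coordsHom (k := k) k v)) default
  have hmem : pt n k ⟨i, v⟩ ∈ Proj.basicOpen (CohB1.polyGrading n k) g ↔ e ∉ (z : PrimeSpectrum _).asIdeal := by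
    rw [pt, GrothLib.Zeta.chartPt, Scheme.Hom.comp_apply]
    exact SetLike.ext_iff.mp h z
  rw [hmem]
  refine not_congr ?_
  show e ∈ (PrimeSpectrum.comap (GrothLib.Zeta.coordsHom (k := k) k v)
    (default : ↥(Spec (CommRingCat.of k)))).asIdeal ↔ _
  rw [PrimeSpectrum.comap_asIdeal, Ideal.mem_comap]
  have hz : ((default : ↥(Spec (CommRingCat.of k))) : PrimeSpectrum k).asIdeal = ⊥ :=
    (Ideal.eq_bot_or_top _).resolve_right ((default : ↥(Spec (CommRingCat.of k))) : PrimeSpectrum k).isPrime.ne_top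
  rw [hz, Ideal.mem_bot]
  have hev := GrothLib.ProjPt.evalAway_mk_spec (CohB1.polyGrading n k) (MvPolynomial.eval₂Hom (algebraMap k k) v.1)
    (GrothLib.Zeta.X_mem k n i) (by rw [MvPolynomial.eval₂Hom_X', v.2.1]; exact isUnit_one) δ (g ^ 1)
    (by simpa using hg)
  simp only [MvPolynomial.eval₂Hom_X', v.2.1, one_pow, mul_one, pow_one] at hev
  refine Iff.of_eq (congrArg (· = 0) (Eq.trans ?_ hev))
  refine congrArg _ ?_
  apply HomogeneousLocalization.val_injective
  simp [e, HomogeneousLocalization.Away.val_mk]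

open Classical in
/-- The number of rational points outside a set. -/
def cnt (Z : Set ↥(P)) : k :=
  letI := Fintype.ofFinite k
  ((Finset.univ.filter fun s : Σ i : Fin (n + 1), GrothLib.Zeta.Coords k n i => pt n k s ∉ Z).card : k)

theorem cnt_union_inter (Z Z' : Set ↥(P)) : cnt (Z ∩ Z') + cnt (Z ∪ Z') = cnt Z + cnt Z' := by
  classical
  letI := Fintype.ofFinite k
  simp only [cnt, Set.mem_inter_iff, Set.mem_union, not_and_or, not_or]
  rw [← Nat.cast_add, ← Nat.cast_add]
  refine congrArg Nat.cast ?_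
  rw [Finset.filter_or, Finset.filter_and]
  exact Finset.card_union_add_card_inter _ _

theorem chi_compl {δ : ℕ} (hδ : 1 ≤ δ) {g : MvPolynomial (Fin (n + 1)) k}
    (hg : g ∈ CohB1.polyGrading n k δ) (g0 : g ≠ 0) :
    chi (bot n k).sys (famZ ((Proj.basicOpen (CohB1.polyGrading n k) g : Set ↥(P))ᶜ)).sys =
      cnt ((Proj.basicOpen (CohB1.polyGrading n k) g : Set ↥(P))ᶜ) := by
  have hle := mult_le_famZ hg
  have h1 := good_mult g hg g0 hδ
  have h2 := good_right (bot_sys_le _) hle h1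
    (good_bot_famZ (Proj.basicOpen (CohB1.polyGrading n k) g).isOpen.isClosed_compl)
  rw [chi_add (bot_sys_le _) hle h1 h2,
    chi_eq_zero_of_nilpotent h2 (fun p x hx => exists_pow_famZ_compl hg x hx), add_zero,
    chi_mult g hg g0 hδ]
  classical
  letI := Fintype.ofFinite k
  rw [Nat.card_eq_fintype_card, ← card_ne_zero_eq hδ g hg, cnt]
  refine congrArg Nat.cast (congrArg Finset.card (Finset.ext fun s => ?_))
  simp only [Finset.mem_filter, Set.mem_compl_iff, not_not, SetLike.mem_coe]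
  exact and_congr_right fun _ => (pt_mem_iff hδ hg s).symm

theorem chi_bot_self : chi (bot n k).sys (bot n k).sys = 0 :=
  chi_eq_zero_of_nilpotent (by
    have h := good_bot_famZ (n := n) (k := k) (Z := Set.univ) isClosed_univ
    rwa [famZ_univ] at h) fun p x hx => ⟨0, hx⟩

theorem chi_eq_cnt_list (l : List { g : (Σ δ : ℕ, MvPolynomial (Fin (n + 1)) k) //
      1 ≤ g.1 ∧ g.2 ∈ CohB1.polyGrading n k g.1 }) :
    chi (bot n k).sys (famZ {y : ↥(P) | ∀ g ∈ l, y ∉ Proj.basicOpen (CohB1.polyGrading n k) g.1.2}).sys =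
      cnt {y : ↥(P) | ∀ g ∈ l, y ∉ Proj.basicOpen (CohB1.polyGrading n k) g.1.2} := by
  have huniv : chi (bot n k).sys (famZ (Set.univ : Set ↥(P))).sys = cnt (Set.univ : Set ↥(P)) := by
    rw [famZ_univ, chi_bot_self]
    simp [cnt]
  induction hl : l.length using Nat.strong_induction_on generalizing l with
  | _ m ih =>
    subst hl
    rcases l with _ | ⟨g, l⟩
    · simpa using huniv
    set B : Set ↥(P) := (Proj.basicOpen (CohB1.polyGrading n k) g.1.2 : Set ↥(P))ᶜ with hB
    set A : Set ↥(P) := {y | ∀ h ∈ l, y ∉ Proj.basicOpen (CohB1.polyGrading n k) h.1.2} with hA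
    have hset : {y : ↥(P) | ∀ h ∈ g :: l, y ∉ Proj.basicOpen (CohB1.polyGrading n k) h.1.2} = B ∩ A := by
      ext y
      simp [hA, hB]
    rw [hset]
    let mulg : { h : (Σ δ : ℕ, MvPolynomial (Fin (n + 1)) k) // 1 ≤ h.1 ∧ h.2 ∈ CohB1.polyGrading n k h.1 } →
        { h : (Σ δ : ℕ, MvPolynomial (Fin (n + 1)) k) // 1 ≤ h.1 ∧ h.2 ∈ CohB1.polyGrading n k h.1 } :=
      fun h => ⟨⟨g.1.1 + h.1.1, g.1.2 * h.1.2⟩, le_add_right g.2.1, SetLike.mul_mem_graded g.2.2 h.2.2⟩
    have hU : B ∪ A = {y : ↥(P) | ∀ h ∈ l.map mulg, y ∉ Proj.basicOpen (CohB1.polyGrading n k) h.1.2} := by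
      ext y
      simp only [hA, hB, Set.mem_union, Set.mem_compl_iff, SetLike.mem_coe, Set.mem_setOf_eq, List.forall_mem_map, mulg,
        Proj.basicOpen_mul, TopologicalSpace.Opens.mem_inf, not_and_or]
      exact ⟨fun h x hx => h.imp id fun h => h x hx, fun h => or_iff_not_imp_left.2 fun hy x hx =>
        (h x hx).resolve_left hy⟩
    have hAc : IsClosed A := by
      have : A = ⋂ h ∈ l, (Proj.basicOpen (CohB1.polyGrading n k) h.1.2 : Set ↥(P))ᶜ := by
        ext y; simp [hA]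
      rw [this]
      exact isClosed_biInter fun h _ => (Proj.basicOpen (CohB1.polyGrading n k) h.1.2).isOpen.isClosed_compl
    have hBc : IsClosed B := (Proj.basicOpen (CohB1.polyGrading n k) g.1.2).isOpen.isClosed_compl
    have eA : chi (bot n k).sys (famZ A).sys = cnt A := ih l.length (by simp) l rfl
    have eU : chi (bot n k).sys (famZ (B ∪ A)).sys = cnt (B ∪ A) := by
      rw [hU]
      exact ih (l.map mulg).length (by simp) _ rfl
    have eB : chi (bot n k).sys (famZ B).sys = cnt B := by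
      by_cases g0 : g.1.2 = 0
      · have : B = Set.univ := by rw [hB, g0, Proj.basicOpen_zero]; simp
        rw [this]; exact huniv
      · exact chi_compl g.2.1 g.2.2 g0
    set SB := (famZ B).sys
    set SA := (famZ A).sys
    have gB := good_bot_famZ hBc
    have gA := good_bot_famZ hAc
    have gU : Good (bot n k).sys (SB ⊓ SA) := by
      rw [← famZ_union]; exact good_bot_famZ (hBc.union hAc)
    have leB : SB ⊓ SA ≤ SB := fun p x hx => hx.1
    have leA : SA ≤ SB ⊔ SA := fun p x hx => Submodule.mem_sup_right hx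
    have g1 : Good (SB ⊓ SA) SB := good_right (bot_sys_le _) leB gU gB
    have g2 : Good SA (SB ⊔ SA) := good_modular SB SA g1
    have g3 : Good (bot n k).sys (SB ⊔ SA) := good_mid (bot_sys_le _) leA gA g2
    have leI : SB ⊔ SA ≤ (famZ (B ∩ A)).sys := fun p =>
      sup_le (famZ_anti (Set.inter_subset_left : B ∩ A ⊆ B) p) (famZ_anti (Set.inter_subset_right : B ∩ A ⊆ A) p)
    have g4 : Good (SB ⊔ SA) (famZ (B ∩ A)).sys :=
      good_right (bot_sys_le _) leI g3 (good_bot_famZ (hBc.inter hAc))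
    have e1 := chi_add (bot_sys_le _) leI g3 g4
    rw [chi_eq_zero_of_nilpotent g4 fun p x hx => exists_pow_famZ_inter hBc hAc x hx, add_zero] at e1
    have e2 := chi_add (bot_sys_le _) leA gA g2
    rw [chi_modular SB SA g1] at e2
    have e3 := chi_add (bot_sys_le _) leB gU g1
    have hUeq : (famZ (B ∪ A)).sys = SB ⊓ SA := famZ_union B A
    rw [hUeq] at eU
    rw [eB, eU] at e3
    rw [eA] at e2
    rw [e1, e2]
    linear_combination -e3 - cnt_union_inter B A

theorem isCompact_of_isProper {X : Scheme.{u}} (f : X ⟶ Spec (CommRingCat.of k)) [IsProper f] (S : Set X) :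
    IsCompact S := by
  haveI : CompactSpace X := QuasiCompact.compactSpace_of_compactSpace f
  haveI : IsLocallyNoetherian X := LocallyOfFiniteType.isLocallyNoetherian f
  haveI : IsNoetherian X := {}
  exact NoetherianSpace.isCompact _

theorem chi_eq_cnt {Z : Set ↥(P)} (hZ : IsClosed Z) : chi (bot n k).sys (famZ Z).sys = cnt Z := by
  classical
  haveI := isProper_ts (n := n) (k := k)
  have hcpt : IsCompact Zᶜ := isCompact_of_isProper (ts n k) _
  have key : ∀ y ∈ Zᶜ, ∃ g : { g : (Σ δ : ℕ, MvPolynomial (Fin (n + 1)) k) //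
      1 ≤ g.1 ∧ g.2 ∈ CohB1.polyGrading n k g.1 },
      y ∈ Proj.basicOpen (CohB1.polyGrading n k) g.1.2 ∧
        (Proj.basicOpen (CohB1.polyGrading n k) g.1.2 : Set ↥(P)) ⊆ Zᶜ := by
    intro y hy
    obtain ⟨_, ⟨h, rfl⟩, hyh, hsub⟩ := TopologicalSpace.Opens.isBasis_iff_nbhd.1
      (Proj.isBasis_basicOpen (CohB1.polyGrading n k)) (U := ⟨Zᶜ, hZ.isOpen_compl⟩) hy
    rw [Proj.basicOpen_eq_iSup_proj, TopologicalSpace.Opens.mem_iSup] at hyh
    obtain ⟨δ, hδ⟩ := hyh
    have hsub' : Proj.basicOpen (CohB1.polyGrading n k) (GradedRing.proj (CohB1.polyGrading n k) δ h) ≤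
        Proj.basicOpen (CohB1.polyGrading n k) h := by
      rw [Proj.basicOpen_eq_iSup_proj _ h]; exact le_iSup (fun i => Proj.basicOpen _ (GradedRing.proj _ i h)) δ
    obtain ⟨i, hi⟩ := TopologicalSpace.Opens.mem_iSup.1
      ((GrothLib.Zeta.iSup_basicOpen (n := n) k).ge (Set.mem_univ y))
    refine ⟨⟨⟨δ + 1, GradedRing.proj (CohB1.polyGrading n k) δ h * MvPolynomial.X i⟩, Nat.le_add_left 1 δ,
      SetLike.mul_mem_graded (SetLike.coe_mem _) (GrothLib.Zeta.X_mem k n i)⟩, ?_, ?_⟩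
    · show y ∈ Proj.basicOpen _ (_ * _)
      rw [Proj.basicOpen_mul]
      exact ⟨hδ, hi⟩
    · intro z hz
      refine hsub (hsub' ?_)
      rw [SetLike.mem_coe, Proj.basicOpen_mul] at hz
      exact hz.1
  choose g hg1 hg2 using key
  obtain ⟨T, hT⟩ := hcpt.elim_finite_subcover
    (fun y : (Zᶜ : Set ↥(P)) => (Proj.basicOpen (CohB1.polyGrading n k) (g y.1 y.2).1.2 : Set ↥(P)))
    (fun y => (Proj.basicOpen (CohB1.polyGrading n k) (g y.1 y.2).1.2).isOpen)
    fun y hy => Set.mem_iUnion.2 ⟨⟨y, hy⟩, hg1 y hy⟩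
  have hset : Z = {y : ↥(P) | ∀ h ∈ T.toList.map (fun y => g y.1 y.2),
      y ∉ Proj.basicOpen (CohB1.polyGrading n k) h.1.2} := by
    ext y
    simp only [Set.mem_setOf_eq, List.forall_mem_map, Finset.mem_toList]
    refine ⟨fun hy w _ hyw => hg2 w.1 w.2 hyw hy, fun h => by_contra fun hy => ?_⟩
    obtain ⟨w, hw, hyw⟩ := Set.mem_iUnion₂.1 (hT hy)
    exact h w hw hyw
  rw [hset]
  exact chi_eq_cnt_list _

theorem chi_famZ_all0 {Z : Set ↥(P)} (hZ : IsClosed Z) :
    chi (famZ Z).sys (all0 n k).sys = cnt (∅ : Set ↥(P)) - cnt Z := by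
  have h0 : (famZ (∅ : Set ↥(P))).sys = (all0 n k).sys :=
    Sys.antisymm (famZ_le_all0 _) (Fam.sys_le fun t x hx => by
      obtain ⟨s, rfl⟩ := exists_val0 t hx
      exact ⟨s, (mem_IZ s).2 fun y hy => hy.elim, rfl⟩)
  have h := chi_add (bot_sys_le _) (famZ_le_all0 Z) (good_bot_famZ hZ) (good_famZ_all0 hZ)
  rw [chi_eq_cnt hZ, ← h0, chi_eq_cnt isClosed_empty, h0] at h
  rw [h, add_sub_cancel_left]

theorem cast_pointCount {X : Scheme.{u}} (ι : X ⟶ P) [IsClosedImmersion ι] :
    (SgaExt.pointCount (ι ≫ ts n k) k : k) = cnt (∅ : Set ↥(P)) - cnt (Set.range ι) := by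
  classical
  letI := Fintype.ofFinite k
  let T : Set (Σ i : Fin (n + 1), GrothLib.Zeta.Coords k n i) := {s | pt n k s ∈ Set.range ι}
  let Φ : T → { g : Spec (CommRingCat.of k) ⟶ X //
      g ≫ ι ≫ ts n k = Spec.map (CommRingCat.ofHom (algebraMap k k)) } := fun s =>
    ⟨(RedSub.exists_lift (GrothLib.Zeta.chartPt k k (GrothLib.Zeta.coordsHom (k := k) k s.1.2)) ι (by
        rintro _ ⟨z, rfl⟩
        rw [Subsingleton.elim z default]
        exact s.2)).choose, by
      rw [← Category.assoc, (RedSub.exists_lift (GrothLib.Zeta.chartPt k k (GrothLib.Zeta.coordsHom (k := k) k s.1.2)) ι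
        (by rintro _ ⟨z, rfl⟩; rw [Subsingleton.elim z default]; exact s.2)).choose_spec]
      exact (GrothLib.Zeta.chartPt_toSpec k k _).trans (by rw [GrothLib.Zeta.coordsHom_base])⟩
  have hΦ : ∀ s, (Φ s).1 ≫ ι = GrothLib.Zeta.chartPt k k (GrothLib.Zeta.coordsHom (k := k) k s.1.2) := fun s =>
    (RedSub.exists_lift (GrothLib.Zeta.chartPt k k (GrothLib.Zeta.coordsHom (k := k) k s.1.2)) ι
      (by rintro _ ⟨z, rfl⟩; rw [Subsingleton.elim z default]; exact s.2)).choose_spec
  have hbij : Function.Bijective Φ := by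
    constructor
    · intro s s' h
      refine Subtype.ext ((GrothLib.Zeta.bijective_coords (n := n) k k).1 (Subtype.ext ?_))
      show GrothLib.Zeta.chartPt k k _ = GrothLib.Zeta.chartPt k k _
      rw [← hΦ, ← hΦ, h]
    · rintro ⟨g, hg⟩
      obtain ⟨s, hs⟩ := (GrothLib.Zeta.bijective_coords (n := n) k k).2
        ⟨g ≫ ι, (Category.assoc g ι (ts n k)).trans hg⟩
      have hs' : GrothLib.Zeta.chartPt k k (GrothLib.Zeta.coordsHom (k := k) k s.2) = g ≫ ι := congrArg Subtype.val hs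
      have hmem : pt n k s ∈ Set.range ι := ⟨g default, by
        rw [pt, hs']; exact (Scheme.Hom.comp_apply g ι default).symm⟩
      refine ⟨⟨s, hmem⟩, Subtype.ext ((cancel_mono ι).1 ?_)⟩
      rw [hΦ]
      exact hs'
  rw [show SgaExt.pointCount (ι ≫ ts n k) k = Nat.card T from (Nat.card_eq_of_bijective Φ hbij).symm]
  rw [cnt, cnt, eq_sub_iff_add_eq, ← Nat.cast_add]
  refine congrArg Nat.cast ?_
  rw [Nat.card_eq_fintype_card, Fintype.card_subtype]
  simp only [T, Set.mem_empty_iff_false, not_false_eq_true, Finset.filter_true, Set.mem_setOf_eq]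
  exact Finset.card_filter_add_card_filter_not _

/-- **The trace formula.** -/
theorem pointCount_eq {X : Scheme.{u}} [X.Over (Spec (CommRingCat.of k))] (ι : X ⟶ P) [IsClosedImmersion ι]
    (hf : ι ≫ ts n k = X ↘ Spec (CommRingCat.of k)) (d : ℕ) (hd : topologicalKrullDim X ≤ d)
    (φ : Coh.toAb (Coh.structureModule X) ⟶ Coh.toAb (Coh.structureModule X))
    (hφ : ∀ (U : X.Opens) (s : Γ(X, U)), (φ.hom.app (Opposite.op U)).hom s = s ^ Nat.card k)
    (T : (i : ℕ) → Coh.HH X (Coh.structureModule X) i →ₗ[k] Coh.HH X (Coh.structureModule X) i)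
    (hT : ∀ (i : ℕ) (x : Coh.HH X (Coh.structureModule X) i), T i x = Sheaf.H.map φ i x) :
    (SgaExt.pointCount (X ↘ Spec (CommRingCat.of k)) k : k) =
      ∑ i ∈ Finset.range (d + 1), (-1 : k) ^ i * LinearMap.trace k _ (T i) := by
  have hc : IsClosed (Set.range ι) := ι.isClosedEmbedding.isClosed_range
  have hg := good_famK ι
  have hZ := good_famZ_all0 hc
  have hle := famK_le_famZ ι
  have gKZ : Good (famK ι).sys (famZ (Set.range ι)).sys := good_left hle (famZ_le_all0 _) hg hZ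
  have h1 := chi_add hle (famZ_le_all0 _) gKZ hZ
  rw [chi_eq_zero_of_nilpotent gKZ (fun p x hx => exists_pow_famK ι x hx), zero_add, chi_famZ_all0 hc,
    ← cast_pointCount ι, hf] at h1
  rw [← h1]
  haveI := isProper_over ι hf
  haveI := Euler.isNoetherian_of_proper (X := X) k
  choose E hE using fun p => exists_hh_equiv ι hf p
  have hvan : ∀ p, d + 1 ≤ p → Subsingleton (Hc (famK ι).sys (all0 n k).sys p) := fun p hp => by
    haveI : Subsingleton (Coh.HH X (Coh.structureModule X) p) :=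
      GVanish.subsingleton_H_of_krullDim_le d hd _ p (by omega)
    exact (E p).toEquiv.subsingleton
  rw [chi_eq_sum hvan]
  refine Finset.sum_congr rfl fun p _ => ?_
  rw [← LinearMap.trace_conj' (tH (famK ι).sys (all0 n k).sys p) (E p)]
  congr 2
  refine LinearMap.ext fun x => ?_
  obtain ⟨z, rfl⟩ := (E p).surjective x
  rw [LinearEquiv.conj_apply_apply, LinearEquiv.symm_apply_apply, hE p φ hφ, hT]

end GrothLib.FrobTrace28
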