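import Groth.Agent.Lib.FrobTrace28.Cx
import Groth.Agent.Lib.ProjCohom.Main
import Mathlib.FieldTheory.Finite.Basic

/-!
# The complex of Laurent cochains with its Frobenius
-/

set_option autoImplicit false
set_option linter.all false

universe u

noncomputable section

namespace GrothLib.FrobTrace28

open GrothLib.ProjCohom

variable (n : ℕ) (k : Type u) [Field k] [Finite k]

/-- The absolute Frobenius of Laurent polynomials. -/
def frob : Lau n k →ₐ[k] Lau n k :=
  letI := Fintype.ofFinite k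
  FiniteField.frobeniusAlgHom k (Lau n k)

theorem frob_apply (x : Lau n k) : frob n k x = x ^ Nat.card k := by
  letI := Fintype.ofFinite k
  rw [Nat.card_eq_fintype_card]
  rfl

/-- The differential. -/
def Dl (p : ℕ) : ((Fin (p + 1) → Fin (n + 1)) → Lau n k) →ₗ[k] ((Fin (p + 2) → Fin (n + 1)) → Lau n k) :=
  LinearMap.pi fun t => ∑ j : Fin (p + 2), ((-1 : ℤ) ^ (j : ℕ)) •
    LinearMap.proj (R := k) (φ := fun _ : Fin (p + 1) → Fin (n + 1) => Lau n k) (t ∘ j.succAbove)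

theorem Dl_apply (p : ℕ) (c : (Fin (p + 1) → Fin (n + 1)) → Lau n k) : Dl n k p c = ProjCohom.D c := by
  funext t
  simp [Dl, ProjCohom.D]

/-- The complex. -/
def LC : TCx.{u, u} k where
  X p := (Fin (p + 1) → Fin (n + 1)) → Lau n k
  d := Dl n k
  t p := LinearMap.pi fun s => (frob n k).toLinearMap.comp (LinearMap.proj s)
  d_d p c := by rw [Dl_apply, Dl_apply]; exact D_D c
  d_t p c := by
    funext t
    rw [Dl_apply]
    show _ = frob n k (Dl n k p c t)
    rw [Dl_apply, ProjCohom.D, ProjCohom.D, map_sum]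
    exact Finset.sum_congr rfl fun j _ => (map_zsmul (frob n k) _ _).symm

variable {n k}

/-- Monotone families of submodules stable under the Frobenius. -/
structure Fam (n : ℕ) (k : Type u) [Field k] [Finite k] where
  M : ∀ {p : ℕ}, (Fin (p + 1) → Fin (n + 1)) → Submodule k (Lau n k)
  mono : ∀ {p : ℕ} (t : Fin (p + 2) → Fin (n + 1)) (j : Fin (p + 2)), M (t ∘ j.succAbove) ≤ M t
  pow_mem : ∀ {p : ℕ} (t : Fin (p + 1) → Fin (n + 1)) (x : Lau n k), x ∈ M t → x ^ Nat.card k ∈ M t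

/-- The subcomplex of a family. -/
def Fam.sys (F : Fam n k) : Sys (LC n k) where
  S p := Submodule.pi Set.univ fun t => F.M t
  d_mem p c hc t _ := by
    show (Dl n k p c) t ∈ _
    rw [Dl_apply]
    exact Submodule.sum_mem _ fun j _ => zsmul_mem (F.mono t j (hc _ trivial)) _
  t_mem p c hc t _ := by
    show frob n k (c t) ∈ _
    rw [frob_apply]
    exact F.pow_mem t _ (hc t trivial)

theorem Fam.mem_sys (F : Fam n k) {p : ℕ} (c : (LC n k).X p) :
    c ∈ F.sys.S p ↔ ∀ t, c t ∈ F.M t :=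
  ⟨fun h t => h t trivial, fun h t _ => h t⟩

theorem Sys.ext {C : TCx.{u, u} k} {A B : Sys C} (h : ∀ p x, x ∈ A.S p ↔ x ∈ B.S p) : A = B := by
  obtain ⟨S, _, _⟩ := A
  obtain ⟨S', _, _⟩ := B
  have : S = S' := funext fun p => Submodule.ext (h p)
  subst this
  rfl

theorem Fam.sys_le {F G : Fam n k} (h : ∀ {p : ℕ} (t : Fin (p + 1) → Fin (n + 1)), F.M t ≤ G.M t) :
    F.sys ≤ G.sys := fun p c hc t _ => h t (hc t trivial)

instance : Min (Fam n k) :=
  ⟨fun F G => ⟨fun t => F.M t ⊓ G.M t, fun t j => inf_le_inf (F.mono t j) (G.mono t j),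
    fun t x hx => ⟨F.pow_mem t x hx.1, G.pow_mem t x hx.2⟩⟩⟩

instance : Max (Fam n k) :=
  ⟨fun F G => ⟨fun t => F.M t ⊔ G.M t, fun t j => sup_le_sup (F.mono t j) (G.mono t j),
    fun t x hx => by
      obtain ⟨a, ha, b, hb, rfl⟩ := Submodule.mem_sup.1 hx
      rw [← frob_apply, map_add, frob_apply, frob_apply]
      exact Submodule.add_mem_sup (F.pow_mem t a ha) (G.pow_mem t b hb)⟩⟩

theorem Fam.inf_sys (F G : Fam n k) : (F ⊓ G).sys = F.sys ⊓ G.sys := by
  refine Sys.ext fun p c => ?_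
  show c ∈ (F ⊓ G).sys.S p ↔ c ∈ F.sys.S p ⊓ G.sys.S p
  rw [Submodule.mem_inf, Fam.mem_sys, Fam.mem_sys, Fam.mem_sys]
  exact forall_and

theorem Fam.sup_sys (F G : Fam n k) : (F ⊔ G).sys = F.sys ⊔ G.sys := by
  refine Sys.ext fun p c => ⟨fun hc => ?_, fun hc => ?_⟩
  · have h : ∀ t, ∃ a ∈ F.M t, ∃ b ∈ G.M t, a + b = c t := fun t =>
      Submodule.mem_sup.1 ((Fam.mem_sys _ c).1 hc t)
    choose a ha b hb hab using h
    exact Submodule.mem_sup.2 ⟨a, (Fam.mem_sys F a).2 ha, b, (Fam.mem_sys G b).2 hb, funext hab⟩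
  · obtain ⟨a, ha, b, hb, rfl⟩ := Submodule.mem_sup.1 (show c ∈ F.sys.S p ⊔ G.sys.S p from hc)
    exact fun t _ => Submodule.add_mem_sup (ha t trivial) (hb t trivial)

variable (k)

/-- Laurent polynomials allowed in a degree on the open of a tuple. -/
def AS (d : ℤ) {p : ℕ} (t : Fin (p + 1) → Fin (n + 1)) : Submodule k (Lau n k) where
  carrier := {x | ∀ b, x.coeff b ≠ 0 → Allowed d t b}
  zero_mem' b hb := absurd rfl hb
  add_mem' {x y} hx hy b hb := by
    by_cases h : x.coeff b = 0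
    · exact hy b (by simpa [h] using hb)
    · exact hx b h
  smul_mem' r x hx b hb := hx b fun h => hb (by simp [h])

variable {k}

theorem mem_AS {d : ℤ} {p : ℕ} {t : Fin (p + 1) → Fin (n + 1)} {x : Lau n k} :
    x ∈ AS k d t ↔ ∀ b, x.coeff b ≠ 0 → Allowed d t b := Iff.rfl

theorem single_mem_AS {d : ℤ} {p : ℕ} {t : Fin (p + 1) → Fin (n + 1)} {b : Ex n} (h : Allowed d t b) (r : k) :
    AddMonoidAlgebra.single b r ∈ AS k d t := fun b' hb' => by
  classical
  rw [AddMonoidAlgebra.coeff_single, Finsupp.single_apply] at hb'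
  by_cases he : b = b'
  · exact he ▸ h
  · rw [if_neg he] at hb'; exact absurd rfl hb'

theorem mul_mem_AS {d e : ℤ} {p : ℕ} {t : Fin (p + 1) → Fin (n + 1)} {x y : Lau n k}
    (hx : x ∈ AS k d t) (hy : y ∈ AS k e t) : x * y ∈ AS k (d + e) t := by
  classical
  intro b hb
  obtain ⟨b1, h1, b2, h2, rfl⟩ := Finset.mem_add.1
    (AddMonoidAlgebra.support_coeff_mul_subset x y (Finsupp.mem_support_iff.2 hb))
  obtain ⟨s1, n1⟩ := hx b1 (Finsupp.mem_support_iff.1 h1)
  obtain ⟨s2, n2⟩ := hy b2 (Finsupp.mem_support_iff.1 h2)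
  refine ⟨by simp only [Pi.add_apply, Finset.sum_add_distrib, s1, s2], fun i hi => ?_⟩
  simp only [Pi.add_apply] at hi
  by_cases h : b1 i < 0
  · exact n1 i h
  · exact n2 i (by omega)

theorem one_mem_AS {p : ℕ} {t : Fin (p + 1) → Fin (n + 1)} : (1 : Lau n k) ∈ AS k 0 t :=
  single_mem_AS ⟨by simp, fun i hi => by simp at hi⟩ 1

theorem pow_mem_AS {d : ℤ} {p : ℕ} {t : Fin (p + 1) → Fin (n + 1)} {x : Lau n k}
    (hx : x ∈ AS k d t) (m : ℕ) : x ^ m ∈ AS k (m * d) t := by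
  induction m with
  | zero => simpa using one_mem_AS
  | succ m ih =>
    rw [pow_succ, show ((m + 1 : ℕ) : ℤ) * d = m * d + d by push_cast; ring]
    exact mul_mem_AS ih hx

theorem toL_mem_AS {δ : ℕ} {g : MvPolynomial (Fin (n + 1)) k} (hg : g ∈ CohB1.polyGrading n k δ)
    {p : ℕ} (t : Fin (p + 1) → Fin (n + 1)) : toL n k g ∈ AS k (δ : ℤ) t := by
  rw [MvPolynomial.as_sum g, map_sum]
  refine Submodule.sum_mem _ fun s hs => ?_
  rw [toL_monomial]
  refine single_mem_AS ⟨?_, fun i hi => absurd hi (by simp)⟩ _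
  have := hg (MvPolynomial.mem_support_iff.1 hs)
  rw [← this, Finsupp.weight_apply, Finsupp.sum_fintype _ _ (fun _ => by simp)]
  simp

theorem mono_cnt_mem_AS {p : ℕ} (t : Fin (p + 1) → Fin (n + 1)) (j : ℤ) :
    mono n k (j • cnt t) ∈ AS k (j * (p + 1)) t := by
  refine single_mem_AS ⟨?_, fun i hi => (cnt_pos_iff t i).1 ?_⟩ 1
  · simp only [Pi.smul_apply, smul_eq_mul, ← Finset.mul_sum, sum_cnt]
    push_cast; ring
  · simp only [Pi.smul_apply, smul_eq_mul] at hi
    rcases (cnt_nonneg t i).lt_or_eq with h0 | h0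
    · exact h0
    · rw [← h0] at hi; simp at hi

theorem AS_mono {d : ℤ} {p : ℕ} (t : Fin (p + 2) → Fin (n + 1)) (j : Fin (p + 2)) :
    AS k d (t ∘ j.succAbove) ≤ AS k d t := fun x hx b hb =>
  ⟨(hx b hb).1, fun i hi => Set.range_comp_subset_range _ _ ((hx b hb).2 i hi)⟩

variable (n k)

/-- The zero family. -/
def bot : Fam n k :=
  ⟨fun _ => ⊥, fun _ _ => le_rfl, fun _ x hx => by
    rw [Submodule.mem_bot] at hx ⊢
    rw [hx, zero_pow (Nat.card_pos (α := k)).ne']⟩

/-- All regular cochains. -/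
def all0 : Fam n k :=
  ⟨fun t => AS k 0 t, fun t j => AS_mono t j, fun t x hx => by simpa using pow_mem_AS hx (Nat.card k)⟩

variable {n k}

/-- The multiples of a homogeneous polynomial. -/
def mult {δ : ℕ} (g : MvPolynomial (Fin (n + 1)) k) (hg : g ∈ CohB1.polyGrading n k δ) : Fam n k where
  M t := (AS k (-(δ : ℤ)) t).map (LinearMap.mulLeft k (toL n k g))
  mono t j := Submodule.map_mono (AS_mono t j)
  pow_mem t x := by
    rintro ⟨c, hc, rfl⟩
    refine ⟨toL n k g ^ (Nat.card k - 1) * c ^ Nat.card k, ?_, ?_⟩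
    · have := mul_mem_AS (pow_mem_AS (toL_mem_AS hg t) (Nat.card k - 1)) (pow_mem_AS hc (Nat.card k))
      have h1 : 1 ≤ Nat.card k := Nat.card_pos
      rwa [show ((Nat.card k - 1 : ℕ) : ℤ) * (δ : ℤ) + (Nat.card k : ℤ) * -(δ : ℤ) = -(δ : ℤ) by
        rw [Nat.cast_sub h1]; push_cast; ring] at this
    · show toL n k g * _ = (toL n k g * c) ^ Nat.card k
      rw [← mul_assoc, ← pow_succ', Nat.sub_add_cancel (Nat.card_pos : 0 < Nat.card k), mul_pow]

end GrothLib.FrobTrace28
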