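import Groth.Agent.Lib.FrobTrace28.Model
import Groth.Agent.Lib.ProjCohom.Results
import Mathlib.LinearAlgebra.Trace
import Mathlib.Data.Int.Interval
import Mathlib.Algebra.Group.UniqueProds.Basic

/-!
# The alternating trace on the multiples of one homogeneous polynomial
-/

set_option autoImplicit false
set_option linter.all false

universe u

noncomputable section

namespace GrothLib.FrobTrace28

open GrothLib.ProjCohom

variable {n : ℕ} {k : Type u} [Field k] [Finite k]

/-- Families of allowed cochains with vanishing differential are boundaries outside the top degree. -/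
theorem exists_primitive_AS {d : ℤ} {p : ℕ} (c : (Fin (p + 2) → Fin (n + 1)) → Lau n k)
    (hc : ∀ s, c s ∈ AS k d s) (hD : ProjCohom.D c = 0)
    (htop : ∀ b : Ex n, ∀ h : p + 1 = n, Neg b = Set.univ → co c b (Fin.cast (congrArg Nat.succ h)) = 0) :
    ∃ e : (Fin (p + 1) → Fin (n + 1)) → Lau n k, (∀ s, e s ∈ AS k d s) ∧ ProjCohom.D e = c := by
  obtain ⟨y, hy⟩ := exists_Φ_eq (d := d) c hc
  have hdy : (K n k d).d (p + 1) (p + 2) y = 0 := Φ_injective (p + 2) (by rw [Φ_d, hy, hD, map_zero])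
  obtain ⟨z, hz⟩ := exists_primitive y hdy (by rw [hy]; exact htop)
  exact ⟨Φ p z, good_Φ z, by rw [← Φ_d, hz, hy]⟩

theorem eq_zero_of_cocycle_zero {d : ℤ} (hn : 1 ≤ n) (hd : d < 0) (c : (Fin 1 → Fin (n + 1)) → Lau n k)
    (hc : ∀ s, c s ∈ AS k d s) (hD : ProjCohom.D c = 0) : c = 0 := by
  obtain ⟨y, hy⟩ := exists_Φ_eq (d := d) c hc
  have hdy : (K n k d).d 0 1 y = 0 := Φ_injective 1 (by rw [Φ_d, hy, hD, map_zero])
  funext s
  refine AddMonoidAlgebra.ext (Finsupp.ext fun b => ?_)
  show (c s).coeff b = 0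
  rw [← hy, cocycle_const y hdy s]
  by_contra hne
  obtain ⟨h1, h2⟩ := cocycle_nonneg (Or.inl hn) y hdy hne
  have := Finset.sum_nonneg (s := Finset.univ) fun i _ => h2 i
  omega

variable (n) in
/-- The exponents of top cohomology. -/
def negBox (δ : ℕ) : Finset (Ex n) :=
  (Fintype.piFinset fun _ : Fin (n + 1) => Finset.Icc (-(δ : ℤ)) (-1)).filter fun b => ∑ i, b i = -(δ : ℤ)

theorem mem_negBox {δ : ℕ} {b : Ex n} : b ∈ negBox n δ ↔ ∑ i, b i = -(δ : ℤ) ∧ ∀ i, b i < 0 := by
  rw [negBox, Finset.mem_filter, Fintype.mem_piFinset, and_comm]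
  refine and_congr_right fun hs => ⟨fun h i => ?_, fun h i => Finset.mem_Icc.2 ⟨?_, by have := h i; omega⟩⟩
  · have := (Finset.mem_Icc.1 (h i)).2; omega
  · have h1 : ∑ j ∈ Finset.univ.erase i, b j ≤ 0 := Finset.sum_nonpos fun j _ => (h j).le
    rw [← Finset.add_sum_erase _ _ (Finset.mem_univ i)] at hs
    omega

variable {δ : ℕ} (g : MvPolynomial (Fin (n + 1)) k) (hg : g ∈ CohB1.polyGrading n k δ)

theorem mulLeft_injective' (g0 : g ≠ 0) : Function.Injective (LinearMap.mulLeft k (toL n k g)) := fun a b h =>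
  mul_left_cancel₀ (fun e => g0 (toL_injective (e.trans (map_zero _).symm))) h

/-- A division by `g`. -/
def quo : Lau n k →ₗ[k] Lau n k :=
  open Classical in
  if g0 : g = 0 then 0 else
    ((LinearMap.mulLeft k (toL n k g)).exists_leftInverse_of_injective
      (LinearMap.ker_eq_bot.2 (mulLeft_injective' g g0))).choose

theorem quo_mul (g0 : g ≠ 0) (c : Lau n k) : quo g (toL n k g * c) = c := by
  rw [quo, dif_neg g0]
  exact LinearMap.congr_fun ((LinearMap.mulLeft k (toL n k g)).exists_leftInverse_of_injective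
      (LinearMap.ker_eq_bot.2 (mulLeft_injective' g g0))).choose_spec c

/-- A coefficient, linearly. -/
def coeffL (b : Ex n) : Lau n k →ₗ[k] k where
  toFun x := x.coeff b
  map_add' x y := by simp
  map_smul' r x := by simp

/-- The values of a top cochain. -/
def Ev : ((Fin (n + 1) → Fin (n + 1)) → Lau n k) →ₗ[k] (negBox n δ → k) :=
  LinearMap.pi fun b => (coeffL b.1).comp ((quo g).comp (LinearMap.proj (id : Fin (n + 1) → Fin (n + 1))))

include hg in
theorem exists_mult {p : ℕ} {x : (LC n k).X p} (hx : x ∈ (mult g hg).sys.S p) :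
    ∃ c : (Fin (p + 1) → Fin (n + 1)) → Lau n k, (∀ s, c s ∈ AS k (-(δ : ℤ)) s) ∧ x = fun s => toL n k g * c s := by
  choose c hc hx' using fun s => ((Fam.mem_sys _ x).1 hx s : x s ∈ (mult g hg).M s)
  exact ⟨c, hc, funext fun s => (hx' s).symm⟩

theorem mult_mem {p : ℕ} {c : (Fin (p + 1) → Fin (n + 1)) → Lau n k} (hc : ∀ s, c s ∈ AS k (-(δ : ℤ)) s) :
    (fun s => toL n k g * c s : (LC n k).X p) ∈ (mult g hg).sys.S p :=
  fun s _ => ⟨c s, hc s, rfl⟩

theorem D_mul {p : ℕ} (c : (Fin (p + 1) → Fin (n + 1)) → Lau n k) (x : Lau n k) :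
    (LC n k).d p (fun s => x * c s) = fun s => x * ProjCohom.D c s := by
  show Dl n k p _ = _
  rw [Dl_apply]
  funext s
  simp only [ProjCohom.D, Finset.mul_sum, mul_smul_comm]

include hg in
theorem exists_cocycle_mult (g0 : g ≠ 0) {p : ℕ} {x : (LC n k).X p}
    (hx : x ∈ Zc (bot n k).sys (mult g hg).sys p) :
    ∃ c : (Fin (p + 1) → Fin (n + 1)) → Lau n k, (∀ s, c s ∈ AS k (-(δ : ℤ)) s) ∧ ProjCohom.D c = 0 ∧
      x = fun s => toL n k g * c s := by
  obtain ⟨c, hc, rfl⟩ := exists_mult g hg hx.1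
  refine ⟨c, hc, funext fun s => mulLeft_injective' g g0 ?_, rfl⟩
  have := ((Fam.mem_sys (bot n k) _).1 hx.2 s : _ ∈ (⊥ : Submodule k (Lau n k)))
  rw [D_mul] at this
  rw [LinearMap.mulLeft_apply, Pi.zero_apply, map_zero]
  exact (Submodule.mem_bot k).1 this

include hg in
theorem mem_Bd_mult {p : ℕ} {e : (Fin (p + 1) → Fin (n + 1)) → Lau n k} (he : ∀ s, e s ∈ AS k (-(δ : ℤ)) s) :
    (fun s => toL n k g * ProjCohom.D e s : (LC n k).X (p + 1)) ∈ Bd (bot n k).sys (mult g hg).sys (p + 1) := by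
  rw [← D_mul]
  exact d_mem_Bd _ _ (mult_mem g hg he)

include hg in
theorem subsingleton_mult (g0 : g ≠ 0) (hδ : 1 ≤ δ) {p : ℕ} (hp : p ≠ n) :
    Subsingleton (Hc (bot n k).sys (mult g hg).sys p) := by
  refine ⟨fun z w => ?_⟩
  suffices h : ∀ z : Hc (bot n k).sys (mult g hg).sys p, z = 0 by rw [h z, h w]
  intro z
  obtain ⟨x, hx, rfl⟩ := exists_cls z
  obtain ⟨c, hc, hD, rfl⟩ := exists_cocycle_mult g hg g0 hx
  rw [cls_eq_zero]
  rcases p with _ | p
  · rw [eq_zero_of_cocycle_zero (by omega) (by omega) c hc hD]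
    simp only [Pi.zero_apply, mul_zero]
    exact zero_mem _
  · obtain ⟨e, he, rfl⟩ := exists_primitive_AS c hc hD fun b h => absurd h hp
    exact mem_Bd_mult g hg he

theorem Ev_mul (g0 : g ≠ 0) (c : (Fin (n + 1) → Fin (n + 1)) → Lau n k) (b : negBox n δ) :
    Ev g (fun s => toL n k g * c s) b = co c b.1 id := by
  show (quo g (toL n k g * c id)).coeff b.1 = _
  rw [quo_mul g g0]
  rfl

include hg in
theorem Ev_Bd (g0 : g ≠ 0) {x : (LC n k).X n} (hx : x ∈ Bd (bot n k).sys (mult g hg).sys n) :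
    Ev g (δ := δ) x = 0 := by
  have hbot : ∀ {p : ℕ} (a : (LC n k).X p), a ∈ (bot n k).sys.S p → a = 0 := fun a ha =>
    funext fun s => (Submodule.mem_bot k).1 (ha s trivial)
  rcases n with _ | m
  · rw [hbot x hx]
    exact map_zero _
  · obtain ⟨a, ha, _, ⟨y, hy, rfl⟩, rfl⟩ := Submodule.mem_sup.1 hx
    obtain ⟨e, he, rfl⟩ := exists_mult g hg hy
    rw [hbot a ha, zero_add, D_mul]
    funext b
    rw [Ev_mul g g0, co_D, D_id_eq_zero (m + 1)]
    · rfl
    · have : Neg b.1 = Set.univ := Set.eq_univ_of_forall fun i => (mem_negBox.1 b.2).2 i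
      rw [← this]
      exact supp_co he b.1

include hg in
theorem ker_Ev (g0 : g ≠ 0) (hδ : 1 ≤ δ) {x : (LC n k).X n} (hx : x ∈ Zc (bot n k).sys (mult g hg).sys n)
    (h : Ev g (δ := δ) x = 0) : x ∈ Bd (bot n k).sys (mult g hg).sys n := by
  obtain ⟨c, hc, hD, rfl⟩ := exists_cocycle_mult g hg g0 hx
  have htop : ∀ b : Ex n, Neg b = Set.univ → co c b id = 0 := by
    intro b hb
    by_contra hne
    have hmem : b ∈ negBox n δ :=
      mem_negBox.2 ⟨(hc id b hne).1, fun i => (hb.ge (Set.mem_univ i) : i ∈ Neg b)⟩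
    exact hne ((Ev_mul g g0 c ⟨b, hmem⟩).symm.trans (congrFun h ⟨b, hmem⟩))
  rcases n with _ | m
  · have : c = 0 := by
      funext s
      refine AddMonoidAlgebra.ext (Finsupp.ext fun b => ?_)
      show co c b s = 0
      rw [show s = id from Subsingleton.elim (α := Fin 1 → Fin 1) _ _]
      by_contra hne
      refine hne (htop b (Set.eq_univ_of_forall fun i => ?_))
      have h1 := (hc id b hne).1
      rw [Fin.sum_univ_one] at h1
      show b i < 0
      rw [show i = 0 from Subsingleton.elim (α := Fin 1) _ _]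
      omega
    subst this
    simp only [Pi.zero_apply, mul_zero]
    exact zero_mem _
  · obtain ⟨e, he, rfl⟩ := exists_primitive_AS c hc hD fun b _ hb => htop b hb
    exact mem_Bd_mult g hg he

include hg in
theorem exists_top_cocycle (b : negBox n δ) (v : k) :
    ∃ c : (Fin (n + 1) → Fin (n + 1)) → Lau n k,
      (fun s => toL n k g * c s : (LC n k).X n) ∈ Zc (bot n k).sys (mult g hg).sys n ∧
      c id = AddMonoidAlgebra.single b.1 v := by
  obtain ⟨c₀, hc₀, hD, hv⟩ := exists_cocycle (M := k) n v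
  refine ⟨fun s => AddMonoidAlgebra.single b.1 (c₀ s), ⟨mult_mem g hg fun s => ?_, ?_⟩, congrArg (AddMonoidAlgebra.single b.1) hv⟩
  · by_cases h : Set.univ ⊆ Set.range s
    · exact single_mem_AS ⟨(mem_negBox.1 b.2).1, fun i _ => h (Set.mem_univ i)⟩ _
    · rw [hc₀ s h, AddMonoidAlgebra.single_zero]
      exact zero_mem _
  · show (LC n k).d n _ ∈ (bot n k).sys.S (n + 1)
    rw [D_mul, show ProjCohom.D (fun s => AddMonoidAlgebra.single b.1 (c₀ s) : _ → Lau n k) = 0 from
      funext fun t => AddMonoidAlgebra.ext (Finsupp.ext fun b' => ?_)]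
    · simp only [Pi.zero_apply, mul_zero]
      exact zero_mem _
    · show co (ProjCohom.D fun s => AddMonoidAlgebra.single b.1 (c₀ s) : _ → Lau n k) b' t = 0
      rw [co_D]
      by_cases hb : b.1 = b'
      · subst hb
        rw [show co (fun s => AddMonoidAlgebra.single b.1 (c₀ s)) b.1 = c₀ from funext fun s => by simp [co]]
        exact congrFun hD t
      · rw [show co (fun s => AddMonoidAlgebra.single b.1 (c₀ s)) b' = 0 from funext fun s => by simp [co, hb]]
        exact congrFun D_zero t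

/-- The top cohomology of the multiples. -/
def topEquiv (g0 : g ≠ 0) (hδ : 1 ≤ δ) : Hc (bot n k).sys (mult g hg).sys n ≃ₗ[k] (negBox n δ → k) :=
  LinearEquiv.ofBijective
    (Submodule.liftQ _ ((Ev g).comp (Zc (bot n k).sys (mult g hg).sys n).subtype) fun x hx => Ev_Bd g hg g0 hx)
    ⟨by
      rw [← LinearMap.ker_eq_bot, Submodule.eq_bot_iff]
      intro z hz
      obtain ⟨x, hx, rfl⟩ := exists_cls z
      exact cls_eq_zero.2 (ker_Ev g hg g0 hδ hx hz), by
      intro v
      choose c hc hcid using fun b : negBox n δ => exists_top_cocycle g hg b (v b)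
      refine ⟨∑ b, cls _ (hc b), ?_⟩
      rw [map_sum]
      funext b'
      rw [Finset.sum_apply, Finset.sum_eq_single b']
      · show Ev g (fun s => toL n k g * c b' s) b' = v b'
        rw [Ev_mul g g0, co, hcid]
        simp
      · intro b _ hb
        show Ev g (fun s => toL n k g * c b s) b' = 0
        rw [Ev_mul g g0, co, hcid]
        simp [Subtype.coe_injective.eq_iff, hb, Ne.symm hb]
      · exact fun h => absurd (Finset.mem_univ _) h⟩

theorem topEquiv_cls (g0 : g ≠ 0) (hδ : 1 ≤ δ) (x : (LC n k).X n)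
    (hx : x ∈ Zc (bot n k).sys (mult g hg).sys n) : topEquiv g hg g0 hδ (cls x hx) = Ev g x := rfl

include hg in
theorem good_mult (g0 : g ≠ 0) (hδ : 1 ≤ δ) : Good (bot n k).sys (mult g hg).sys := by
  refine ⟨fun p => ?_, n + 1, fun p hp => subsingleton_mult g hg g0 hδ (by omega)⟩
  by_cases hp : p = n
  · subst hp
    exact (topEquiv g hg g0 hδ).symm.finiteDimensional
  · haveI := subsingleton_mult g hg g0 hδ hp
    exact Module.Finite.of_finite

include hg in
/-- **The alternating trace of the multiples of `g`.** -/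
theorem chi_mult (g0 : g ≠ 0) (hδ : 1 ≤ δ) :
    chi (bot n k).sys (mult g hg).sys = (-1) ^ n *
      ∑ b ∈ negBox n δ, (toL n k (g ^ (Nat.card k - 1))).coeff (b - (Nat.card k : ℤ) • b) := by
  have hq : 0 < Nat.card k := Nat.card_pos
  rw [chi, finsum_eq_single _ n fun p hp => by
    haveI := subsingleton_mult g hg g0 hδ hp
    rw [Subsingleton.elim (tH (bot n k).sys (mult g hg).sys p) 0, map_zero, mul_zero]]
  congr 1
  let e := topEquiv g hg g0 hδ
  rw [← LinearMap.trace_conj' (tH (bot n k).sys (mult g hg).sys n) e,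
    LinearMap.trace_eq_matrix_trace k (Pi.basisFun k (negBox n δ)), Matrix.trace,
    ← Finset.sum_attach (negBox n δ) (fun b => (toL n k (g ^ (Nat.card k - 1))).coeff (b - (Nat.card k : ℤ) • b))]
  refine Finset.sum_congr rfl fun b _ => ?_
  rw [Matrix.diag_apply, LinearMap.toMatrix_apply, Pi.basisFun_repr, Pi.basisFun_apply]
  obtain ⟨c, hc, hcid⟩ := exists_top_cocycle g hg b 1
  have he : e (cls _ hc) = Pi.single b 1 := by
    rw [topEquiv_cls]
    funext b'
    rw [Ev_mul g g0, co, hcid, AddMonoidAlgebra.coeff_single, Finsupp.single_apply, Pi.single_apply]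
    simp [Subtype.coe_injective.eq_iff, eq_comm]
  rw [← he, LinearEquiv.conj_apply_apply, LinearEquiv.symm_apply_apply]
  show Ev g (fun s => frob n k (toL n k g * c s)) b = _
  rw [show (fun s => frob n k (toL n k g * c s)) =
      fun s => toL n k g * (toL n k g ^ (Nat.card k - 1) * c s ^ Nat.card k) from funext fun s => by
    rw [frob_apply, ← mul_assoc, ← pow_succ', Nat.sub_add_cancel hq, mul_pow]]
  rw [Ev_mul g g0, co, hcid, AddMonoidAlgebra.single_pow, one_pow, map_pow]
  rw [← natCast_zsmul]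
  exact (AddMonoidAlgebra.coeff_mul_single_apply _ _ _ _).trans (mul_one _)

end GrothLib.FrobTrace28
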