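import Groth.Agent.Lib.FrobTrace28.Model
import Groth.Agent.Lib.VA.Vals
import Mathlib.Algebra.Group.UniqueProds.Basic

/-!
# Regular functions on the opens of tuples as Laurent polynomials
-/

set_option autoImplicit false
set_option linter.all false
set_option backward.isDefEq.respectTransparency false

universe u

set_option maxHeartbeats 200000

open AlgebraicGeometry CategoryTheory TopologicalSpace Opposite HomogeneousLocalization

noncomputable section

namespace GrothLib.FrobTrace28

open GrothLib.ProjCohom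

variable {n : ℕ} {k : Type u} [Field k] [Finite k]

local notation "P" => Proj (CohB1.polyGrading n k)

theorem isUnit_toL_mon {p : ℕ} (t : Fin (p + 1) → Fin (n + 1)) : IsUnit (toL n k (mon k t)) := by
  rw [toL_mon]
  exact IsUnit.of_mul_eq_one (mono n k (-cnt t)) (by rw [mono_mul, add_neg_cancel, mono_zero])

/-- Evaluation on the localisation. -/
def locVal {p : ℕ} (t : Fin (p + 1) → Fin (n + 1)) : Localization.Away (mon k t) →+* Lau n k :=
  IsLocalization.Away.lift (mon k t) (g := toL n k) (isUnit_toL_mon t)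

theorem locVal_algebraMap {p : ℕ} (t : Fin (p + 1) → Fin (n + 1)) (a : MvPolynomial (Fin (n + 1)) k) :
    locVal t (algebraMap _ _ a) = toL n k a :=
  IsLocalization.Away.lift_eq _ _ _

theorem locVal_mk {p : ℕ} (t : Fin (p + 1) → Fin (n + 1)) (a : MvPolynomial (Fin (n + 1)) k) (j : ℕ) (hj) :
    locVal t (Localization.mk a (⟨mon k t ^ j, hj⟩ : Submonoid.powers (mon k t))) = repVal t j a := by
  have h : Localization.mk a (⟨mon k t ^ j, hj⟩ : Submonoid.powers (mon k t)) *
      algebraMap _ _ (mon k t ^ j) = algebraMap _ _ a := by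
    rw [Localization.mk_eq_mk']
    exact IsLocalization.mk'_spec _ a ⟨mon k t ^ j, hj⟩
  have h' := congrArg (locVal t) h
  rw [map_mul, locVal_algebraMap, locVal_algebraMap, map_pow, toL_mon, mono_pow] at h'
  rw [repVal, ← h', mul_assoc, mono_mul, add_neg_cancel, mono_zero, mul_one]

/-- Evaluation on the degree zero part. -/
def awayVal {p : ℕ} (t : Fin (p + 1) → Fin (n + 1)) : Away (CohB1.polyGrading n k) (mon k t) →+* Lau n k :=
  (locVal t).comp (algebraMap (Away (CohB1.polyGrading n k) (mon k t)) (Localization.Away (mon k t)))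

theorem awayVal_mk {p : ℕ} (t : Fin (p + 1) → Fin (n + 1)) (j : ℕ) (a : MvPolynomial (Fin (n + 1)) k) (ha) :
    awayVal t (Away.mk (CohB1.polyGrading n k) (mon_mem t) j a ha) = repVal t j a := by
  show locVal t (Away.mk (CohB1.polyGrading n k) (mon_mem t) j a ha).val = _
  rw [Away.val_mk]
  exact locVal_mk t a j _

theorem awayVal_injective {p : ℕ} (t : Fin (p + 1) → Fin (n + 1)) : Function.Injective (awayVal (k := k) t) := by
  rw [injective_iff_map_eq_zero]
  intro x hx
  obtain ⟨j, a, ha, rfl⟩ := Away.mk_surjective (CohB1.polyGrading n k) (mon_mem t) x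
  rw [awayVal_mk, repVal] at hx
  have h := congrArg (· * mono n k ((j : ℤ) • cnt t)) hx
  simp only [mul_assoc, mono_mul, neg_add_cancel, mono_zero, mul_one, zero_mul] at h
  apply HomogeneousLocalization.val_injective
  rw [Away.val_mk, HomogeneousLocalization.val_zero, toL_injective (h.trans (map_zero _).symm), Localization.mk_zero]

theorem awayVal_mem {p : ℕ} (t : Fin (p + 1) → Fin (n + 1)) (x : Away (CohB1.polyGrading n k) (mon k t)) :
    awayVal t x ∈ AS k 0 t := by
  obtain ⟨j, a, ha, rfl⟩ := Away.mk_surjective (CohB1.polyGrading n k) (mon_mem t) x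
  rw [awayVal_mk, repVal, show -((j : ℤ) • cnt t) = (-(j : ℤ)) • cnt t by rw [neg_smul]]
  have h := mul_mem_AS (toL_mem_AS ha t) (mono_cnt_mem_AS (k := k) t (-(j : ℤ)))
  rwa [show ((j • (p + 1) : ℕ) : ℤ) + -(j : ℤ) * ((p : ℤ) + 1) = 0 by rw [smul_eq_mul]; push_cast; ring] at h

theorem exists_awayVal {p : ℕ} (t : Fin (p + 1) → Fin (n + 1)) {f : Lau n k} (hf : f ∈ AS k 0 t) :
    ∃ x : Away (CohB1.polyGrading n k) (mon k t), awayVal t x = f := by
  classical
  have key : ∀ b : Ex n, Allowed 0 t b → ∀ r : k,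
      AddMonoidAlgebra.single b r ∈ (awayVal (k := k) t).range := by
    intro b hb r
    let j : ℕ := Finset.univ.sup fun i => (-(b i)).toNat
    let a : Fin (n + 1) →₀ ℕ := Finsupp.equivFunOnFinite.symm fun i => (b i + j * cnt t i).toNat
    have hnn : ∀ i, 0 ≤ b i + j * cnt t i := by
      intro i
      by_cases h : 0 ≤ b i
      · have := cnt_nonneg t i; positivity
      · have h1 : 0 < cnt t i := (cnt_pos_iff t i).2 (hb.2 i (by omega))
        have h2 : (-(b i)).toNat ≤ j := Finset.le_sup (f := fun i => (-(b i)).toNat) (Finset.mem_univ i)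
        nlinarith [Int.self_le_toNat (-(b i))]
    have ha : ∀ i, (a i : ℤ) = b i + j * cnt t i := fun i => by simp [a, hnn i]
    have hdeg : ((∑ i, a i : ℕ) : ℤ) = ((j • (p + 1) : ℕ) : ℤ) := by
      rw [Nat.cast_sum]
      simp only [ha, Finset.sum_add_distrib, ← Finset.mul_sum, sum_cnt, hb.1, smul_eq_mul]
      push_cast; ring
    have hA : MvPolynomial.monomial a r ∈ CohB1.polyGrading n k (j • (p + 1)) :=
      MvPolynomial.isHomogeneous_monomial r (by
        rw [← Int.ofNat.inj hdeg]
        exact Finsupp.sum_fintype a (fun _ e => e) fun _ => rfl)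
    refine ⟨Away.mk _ (mon_mem t) j _ hA, ?_⟩
    rw [awayVal_mk, repVal, toL_monomial, mono, AddMonoidAlgebra.single_mul_single, mul_one]
    congr 1
    funext i
    simp [ha]
  have h : f ∈ (awayVal (k := k) t).range := by
    rw [← AddMonoidAlgebra.sum_coeff_single f]
    exact Subring.sum_mem _ fun b hb => key b (hf b (Finsupp.mem_support_iff.1 hb)) _
  exact h

variable (k) in
/-- Sections on the open of a tuple. -/
abbrev Γt {p : ℕ} (t : Fin (p + 1) → Fin (n + 1)) : CommRingCat.{u} := Γ(Proj (CohB1.polyGrading n k), Dt k t)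

/-- The degree zero localisation as sections. -/
def awayIso {p : ℕ} (t : Fin (p + 1) → Fin (n + 1)) :
    CommRingCat.of (Away (CohB1.polyGrading n k) (mon k t)) ≅ Γt k t :=
  Proj.basicOpenIsoAway (CohB1.polyGrading n k) (mon k t) (mon_mem t) (Nat.succ_pos p)

/-- Regular functions as Laurent polynomials. -/
def val0 {p : ℕ} (t : Fin (p + 1) → Fin (n + 1)) : Γt k t →+* Lau n k :=
  (awayVal t).comp (awayIso t).inv.hom

theorem val0_awayToSection {p : ℕ} (t : Fin (p + 1) → Fin (n + 1))
    (x : Away (CohB1.polyGrading n k) (mon k t)) :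
    val0 t (Proj.awayToSection (CohB1.polyGrading n k) (mon k t) x) = awayVal t x := by
  show awayVal t ((awayIso t).inv ((awayIso t).hom x)) = _
  rw [Iso.hom_inv_id_apply]

theorem exists_awayToSection {p : ℕ} (t : Fin (p + 1) → Fin (n + 1)) (s : Γt k t) :
    ∃ x, Proj.awayToSection (CohB1.polyGrading n k) (mon k t) x = s :=
  ⟨(awayIso t).inv s, Iso.inv_hom_id_apply (awayIso t) s⟩

theorem val0_injective {p : ℕ} (t : Fin (p + 1) → Fin (n + 1)) : Function.Injective (val0 (k := k) t) :=
  (awayVal_injective t).comp (ConcreteCategory.bijective_of_isIso (awayIso t).inv).1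

theorem val0_mem {p : ℕ} (t : Fin (p + 1) → Fin (n + 1)) (s : Γt k t) : val0 t s ∈ AS k 0 t :=
  awayVal_mem t _

theorem exists_val0 {p : ℕ} (t : Fin (p + 1) → Fin (n + 1)) {f : Lau n k} (hf : f ∈ AS k 0 t) :
    ∃ s : Γt k t, val0 t s = f := by
  obtain ⟨x, rfl⟩ := exists_awayVal t hf
  exact ⟨_, val0_awayToSection t x⟩

theorem mon_eq_mul {p : ℕ} (t : Fin (p + 1) → Fin (n + 1)) (j : Fin (p + 1)) :
    mon k t = mon k (t ∘ j.succAbove) * MvPolynomial.X (t j) := by
  rw [mon, mon, Fin.prod_univ_succAbove _ j, mul_comm]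
  rfl

theorem Dt_le {p : ℕ} (t : Fin (p + 2) → Fin (n + 1)) (j : Fin (p + 2)) : Dt k t ≤ Dt k (t ∘ j.succAbove) :=
  Proj.basicOpen_mono _ _ _ ⟨_, mon_eq_mul t j⟩

theorem res_awayToSection {A σ : Type u} [CommRing A] [SetLike σ A] [AddSubgroupClass σ A] (𝒜 : ℕ → σ)
    [GradedRing 𝒜] {f g x : A} {d : ℕ} (hg : g ∈ 𝒜 d) (hx : x = f * g)
    (h : Proj.basicOpen 𝒜 x ≤ Proj.basicOpen 𝒜 f) (a : Away 𝒜 f) :
    (Proj 𝒜).presheaf.map (homOfLE h).op (Proj.awayToSection 𝒜 f a) =
      Proj.awayToSection 𝒜 x (awayMap 𝒜 hg hx a) :=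
  (congrArg (fun φ => φ.hom a) (Proj.awayMap_awayToSection 𝒜 hg hx)).symm

theorem awayVal_awayMap {p : ℕ} (t : Fin (p + 2) → Fin (n + 1)) (j : Fin (p + 2))
    {g : MvPolynomial (Fin (n + 1)) k} {d : ℕ} (hg : g ∈ CohB1.polyGrading n k d)
    (hx : mon k t = mon k (t ∘ j.succAbove) * g) (x : Away (CohB1.polyGrading n k) (mon k (t ∘ j.succAbove))) :
    awayVal t (awayMap (CohB1.polyGrading n k) hg hx x) = awayVal (t ∘ j.succAbove) x := by
  show locVal t (HomogeneousLocalization.val _) = locVal (t ∘ j.succAbove) x.val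
  rw [val_awayMap]
  generalize x.val = y
  refine RingHom.congr_fun (f := (locVal t).comp _) (g := locVal (t ∘ j.succAbove)) ?_ y
  refine IsLocalization.ringHom_ext (Submonoid.powers (mon k (t ∘ j.succAbove))) (RingHom.ext fun a => ?_)
  simp only [RingHom.comp_apply, locVal_algebraMap]
  exact (congrArg (locVal t) (IsLocalization.lift_eq _ a)).trans (locVal_algebraMap t a)

theorem val0_res {p : ℕ} (t : Fin (p + 2) → Fin (n + 1)) (j : Fin (p + 2)) (s : Γt k (t ∘ j.succAbove))
    (h : Dt k t ≤ Dt k (t ∘ j.succAbove)) :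
    val0 t (((P).presheaf.map (homOfLE h).op) s) = val0 (t ∘ j.succAbove) s := by
  obtain ⟨x, rfl⟩ := exists_awayToSection _ s
  have hX : (MvPolynomial.X (t j) : MvPolynomial (Fin (n + 1)) k) ∈ CohB1.polyGrading n k 1 :=
    MvPolynomial.isHomogeneous_X k (t j)
  have e := res_awayToSection (CohB1.polyGrading n k) hX (mon_eq_mul t j) h x
  refine (congrArg (val0 t) e).trans ?_
  rw [val0_awayToSection, val0_awayToSection, awayVal_awayMap]

/-- The constants. -/
abbrev cst0 (V : (P).Opens) : k →+* Γ(P, V) :=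
  ((P).presheaf.map (homOfLE le_top).op).hom.comp
    ((VA.constSec (CohB1.polyGrading n k)).comp (algebraMap k (CohB1.polyGrading n k 0)))

theorem awayVal_fromZero {p : ℕ} (t : Fin (p + 1) → Fin (n + 1)) (a : CohB1.polyGrading n k 0) :
    awayVal t (fromZeroRingHom (CohB1.polyGrading n k) _ a) = toL n k a.1 := by
  have ha : a.1 ∈ CohB1.polyGrading n k (0 • (p + 1)) := by rw [zero_smul]; exact a.2
  have e : fromZeroRingHom (CohB1.polyGrading n k) (Submonoid.powers (mon k t)) a =
      Away.mk (CohB1.polyGrading n k) (mon_mem t) 0 a.1 ha := by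
    apply HomogeneousLocalization.val_injective
    rw [Away.val_mk]
    exact (HomogeneousLocalization.val_mk _).trans (congrArg (Localization.mk a.1) (Subtype.ext (pow_zero _).symm))
  rw [e, awayVal_mk, repVal]
  simp [mono_zero]

theorem val0_cst {p : ℕ} (t : Fin (p + 1) → Fin (n + 1)) (r : k) :
    val0 t (cst0 (Dt k t) r) = algebraMap k (Lau n k) r := by
  have h := VA.constSec_res (CohB1.polyGrading n k) (mon_mem (R := k) t) (Nat.succ_pos p)
    (algebraMap k (CohB1.polyGrading n k 0) r)
  have e : cst0 (Dt k t) r = Proj.awayToSection (CohB1.polyGrading n k) (mon k t)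
      (fromZeroRingHom (CohB1.polyGrading n k) _ (algebraMap k (CohB1.polyGrading n k 0) r)) := by
    rw [RingHom.comp_apply, RingHom.comp_apply]
    exact h
  rw [e, val0_awayToSection, awayVal_fromZero, ← toL_C]
  rfl

end GrothLib.FrobTrace28
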