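import Groth.Agent.Lib.FrobTrace28.Val0
import Mathlib.RingTheory.Spectrum.Prime.Topology

/-!
# Cochains vanishing on a closed set
-/

set_option autoImplicit false
set_option linter.all false
set_option backward.isDefEq.respectTransparency false

universe u

open AlgebraicGeometry CategoryTheory TopologicalSpace Opposite HomogeneousLocalization

noncomputable section

namespace GrothLib.FrobTrace28

open GrothLib.ProjCohom

variable {n : ℕ} {k : Type u} [Field k] [Finite k]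

local notation "P" => Proj (CohB1.polyGrading n k)

theorem isAffineOpen_Dt {p : ℕ} (t : Fin (p + 1) → Fin (n + 1)) : IsAffineOpen (Dt k t) :=
  Proj.isAffineOpen_basicOpen _ _ (mon_mem t) (Nat.succ_pos p)

/-- The functions on the open of a tuple vanishing on a set. -/
def IZ (Z : Set ↥(P)) {p : ℕ} (t : Fin (p + 1) → Fin (n + 1)) : Ideal (Γt k t) :=
  PrimeSpectrum.vanishingIdeal ((isAffineOpen_Dt (k := k) t).fromSpec ⁻¹' Z)

theorem mem_IZ {Z : Set ↥(P)} {p : ℕ} {t : Fin (p + 1) → Fin (n + 1)} (s : Γt k t) :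
    s ∈ IZ Z t ↔ ∀ y ∈ Z, y ∉ (P).basicOpen s := by
  have h := (isAffineOpen_Dt (k := k) t).fromSpec_preimage_basicOpen s
  rw [IZ, PrimeSpectrum.mem_vanishingIdeal]
  constructor
  · intro hs y hy hys
    obtain ⟨x, rfl⟩ : y ∈ Set.range (isAffineOpen_Dt (k := k) t).fromSpec := by
      rw [(isAffineOpen_Dt (k := k) t).range_fromSpec]
      exact (P).basicOpen_le s hys
    exact (show x ∈ PrimeSpectrum.basicOpen s from h ▸ hys) (hs x hy)
  · intro hs x hx
    by_contra hne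
    refine hs _ hx ?_
    have : x ∈ (isAffineOpen_Dt (k := k) t).fromSpec ⁻¹ᵁ (P).basicOpen s := by rw [h]; exact hne
    exact this

theorem smul_val0 {p : ℕ} (t : Fin (p + 1) → Fin (n + 1)) (r : k) (s : Γt k t) :
    val0 t (cst0 (Dt k t) r * s) = r • val0 t s := by
  rw [map_mul, val0_cst, Algebra.smul_def]

/-- The image of an ideal of functions. -/
def imgI {p : ℕ} (t : Fin (p + 1) → Fin (n + 1)) (I : Ideal (Γt k t)) : Submodule k (Lau n k) where
  carrier := val0 t '' I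
  zero_mem' := ⟨0, I.zero_mem, map_zero _⟩
  add_mem' := by
    rintro _ _ ⟨a, ha, rfl⟩ ⟨b, hb, rfl⟩
    exact ⟨a + b, I.add_mem ha hb, map_add _ _ _⟩
  smul_mem' r _ := by
    rintro ⟨a, ha, rfl⟩
    exact ⟨_, I.mul_mem_left (cst0 (Dt k t) r) ha, smul_val0 t r a⟩

theorem imgI_inf {p : ℕ} (t : Fin (p + 1) → Fin (n + 1)) (I J : Ideal (Γt k t)) :
    imgI t (I ⊓ J) = imgI t I ⊓ imgI t J := by
  refine Submodule.ext fun x => ⟨?_, ?_⟩
  · rintro ⟨a, ha, rfl⟩
    exact ⟨⟨a, ha.1, rfl⟩, a, ha.2, rfl⟩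
  · rintro ⟨⟨a, ha, rfl⟩, b, hb, e⟩
    exact ⟨a, ⟨ha, val0_injective t e ▸ hb⟩, rfl⟩

theorem imgI_sup {p : ℕ} (t : Fin (p + 1) → Fin (n + 1)) (I J : Ideal (Γt k t)) :
    imgI t (I ⊔ J) = imgI t I ⊔ imgI t J := by
  refine le_antisymm ?_ (sup_le ?_ ?_)
  · rintro _ ⟨a, ha, rfl⟩
    obtain ⟨b, hb, c, hc, rfl⟩ := Submodule.mem_sup.1 ha
    rw [map_add]
    exact Submodule.add_mem_sup ⟨b, hb, rfl⟩ ⟨c, hc, rfl⟩
  · exact Set.image_mono fun a ha => Ideal.mem_sup_left ha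
  · exact Set.image_mono fun a ha => Ideal.mem_sup_right ha

/-- Cochains vanishing on a set. -/
def famZ (Z : Set ↥(P)) : Fam n k where
  M t := imgI t (IZ Z t)
  mono t j := by
    rintro _ ⟨s, hs, rfl⟩
    refine ⟨_, (mem_IZ _).2 fun y hy hys => ?_, val0_res t j s (Dt_le t j)⟩
    rw [Scheme.basicOpen_res] at hys
    exact (mem_IZ s).1 hs y hy hys.2
  pow_mem t x := by
    rintro ⟨s, hs, rfl⟩
    exact ⟨s ^ Nat.card k, Ideal.pow_mem_of_mem _ hs _ Nat.card_pos, map_pow _ _ _⟩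

theorem famZ_le_all0 (Z : Set ↥(P)) : (famZ Z).sys ≤ (all0 n k).sys :=
  Fam.sys_le fun t => by
    rintro _ ⟨s, -, rfl⟩
    exact val0_mem t s

theorem famZ_univ : (famZ (Set.univ : Set ↥(P))).sys = (bot n k).sys := by
  refine Sys.ext fun p c => ?_
  rw [Fam.mem_sys, Fam.mem_sys]
  refine forall_congr' fun t => ⟨?_, fun h => ?_⟩
  · rintro ⟨s, hs, e⟩
    rw [SetLike.mem_coe, IZ, Set.preimage_univ] at hs
    have hnil : IsNilpotent s := by
      rw [← mem_nilradical, nilradical_eq_sInf, Submodule.mem_sInf]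
      exact fun J hJ => (PrimeSpectrum.mem_vanishingIdeal _ _).1 hs ⟨J, hJ⟩ trivial
    show c t ∈ (⊥ : Submodule k (Lau n k))
    rw [Submodule.mem_bot, ← e]
    exact (hnil.map (val0 t)).eq_zero
  · rw [(Submodule.mem_bot k).1 h]
    exact zero_mem _

theorem famZ_union (Z Z' : Set ↥(P)) : (famZ (Z ∪ Z')).sys = (famZ Z).sys ⊓ (famZ Z').sys := by
  rw [← Fam.inf_sys]
  refine Sys.ext fun p c => ?_
  rw [Fam.mem_sys, Fam.mem_sys]
  refine forall_congr' fun t => ?_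
  show c t ∈ imgI t (IZ (Z ∪ Z') t) ↔ c t ∈ imgI t (IZ Z t) ⊓ imgI t (IZ Z' t)
  rw [← imgI_inf, IZ, IZ, IZ, Set.preimage_union, PrimeSpectrum.vanishingIdeal_union]

theorem famZ_anti {Z Z' : Set ↥(P)} (h : Z ⊆ Z') : (famZ Z').sys ≤ (famZ Z).sys :=
  Fam.sys_le fun t => Set.image_mono fun s hs => (mem_IZ s).2 fun y hy => (mem_IZ s).1 hs y (h hy)

/-- Powers eventually land in a family. -/
theorem exists_pow_sys {A : Fam n k} {p : ℕ} (x : (LC n k).X p)
    (h : ∀ t, ∃ j : ℕ, ∀ i ≥ j, x t ^ (Nat.card k ^ i) ∈ A.M t) :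
    ∃ m : ℕ, (((LC n k).t p) ^ m) x ∈ A.sys.S p := by
  choose j hj using h
  have key : ∀ (m : ℕ), (((LC n k).t p) ^ m) x = fun t => x t ^ (Nat.card k ^ m) := by
    intro m
    induction m with
    | zero => funext t; simp
    | succ m ih =>
      rw [pow_succ', Module.End.mul_apply, ih]
      funext t
      show frob n k (x t ^ Nat.card k ^ m) = _
      rw [frob_apply, ← pow_mul, ← pow_succ]
  refine ⟨Finset.univ.sup j, ?_⟩
  rw [key, Fam.mem_sys]
  exact fun t => hj t _ (Finset.le_sup (Finset.mem_univ t))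

theorem exists_pow_famZ_inter {Z Z' : Set ↥(P)} (hZ : IsClosed Z) (hZ' : IsClosed Z') {p : ℕ}
    (x : (LC n k).X p) (hx : x ∈ (famZ (Z ∩ Z')).sys.S p) :
    ∃ m : ℕ, (((LC n k).t p) ^ m) x ∈ ((famZ Z).sys ⊔ (famZ Z').sys).S p := by
  rw [← Fam.sup_sys]
  refine exists_pow_sys x fun t => ?_
  obtain ⟨s, hs, e⟩ := (Fam.mem_sys _ x).1 hx t
  have hc : ∀ W : Set ↥(P), IsClosed W →
      PrimeSpectrum.zeroLocus (IZ W t : Set (Γt k t)) = (isAffineOpen_Dt (k := k) t).fromSpec ⁻¹' W := fun W hW => by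
    rw [IZ, PrimeSpectrum.zeroLocus_vanishingIdeal_eq_closure]
    exact (hW.preimage (isAffineOpen_Dt (k := k) t).fromSpec.continuous).closure_eq
  have h : s ∈ (IZ Z t ⊔ IZ Z' t).radical := by
    rw [← PrimeSpectrum.vanishingIdeal_zeroLocus_eq_radical, PrimeSpectrum.zeroLocus_sup, hc Z hZ, hc Z' hZ',
      ← Set.preimage_inter]
    exact hs
  obtain ⟨N, hN⟩ := h
  refine ⟨N, fun i hi => ?_⟩
  show x t ^ Nat.card k ^ i ∈ imgI t (IZ Z t) ⊔ imgI t (IZ Z' t)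
  rw [← imgI_sup, ← e, ← map_pow]
  have hq : N ≤ Nat.card k ^ i := hi.trans (Nat.lt_pow_self Finite.one_lt_card).le
  exact ⟨_, Ideal.pow_mem_of_pow_mem _ hN hq, rfl⟩

section Hypersurface

variable {δ : ℕ} {g : MvPolynomial (Fin (n + 1)) k} (hg : g ∈ CohB1.polyGrading n k δ)

include hg in
theorem pow_mem_deg (p : ℕ) : g ^ (p + 1) ∈ CohB1.polyGrading n k (δ • (p + 1)) := by
  rw [smul_eq_mul, mul_comm, ← smul_eq_mul]
  exact SetLike.pow_mem_graded (p + 1) hg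

/-- The equation on the open of a tuple. -/
def gam {p : ℕ} (t : Fin (p + 1) → Fin (n + 1)) : Γt k t :=
  Proj.awayToSection (CohB1.polyGrading n k) (mon k t)
    (Away.mk (CohB1.polyGrading n k) (mon_mem t) δ (g ^ (p + 1)) (pow_mem_deg hg p))

theorem val0_gam {p : ℕ} (t : Fin (p + 1) → Fin (n + 1)) :
    val0 t (gam hg t) = toL n k g ^ (p + 1) * mono n k (-((δ : ℤ) • cnt t)) := by
  rw [gam, val0_awayToSection, awayVal_mk, repVal, map_pow]

include hg in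
theorem mem_basicOpen_gam {p : ℕ} (t : Fin (p + 1) → Fin (n + 1)) (y : ↥(P)) (hy : y ∈ Dt k t) :
    y ∈ (P).basicOpen (gam hg t) ↔ y ∈ Proj.basicOpen (CohB1.polyGrading n k) g := by
  rw [Scheme.mem_basicOpen _ _ y hy, Proj.mem_basicOpen]
  let e := Proj.stalkIso' (CohB1.polyGrading n k) y
  have h1 : IsUnit ((P).presheaf.germ (Dt k t) y hy (gam hg t)) ↔
      IsUnit ((gam hg t).1 ⟨y, hy⟩) := by
    rw [← Proj.stalkIso'_germ (CohB1.polyGrading n k) (Dt k t) y hy (gam hg t)]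
    exact (MulEquiv.isUnit_map e).symm
  rw [h1, ← HomogeneousLocalization.isUnit_iff_isUnit_val]
  have h2 := ProjectiveSpectrum.Proj.awayToSection_apply (CohB1.polyGrading n k) (mon k t)
    (Away.mk (CohB1.polyGrading n k) (mon_mem t) δ (g ^ (p + 1)) (pow_mem_deg hg p)) ⟨y, hy⟩
  rw [show ((gam hg t).1 ⟨y, hy⟩).val = _ from h2, Away.val_mk, Localization.mk_eq_mk', IsLocalization.map_mk']
  rw [IsLocalization.AtPrime.isUnit_mk'_iff _ y.asHomogeneousIdeal.toIdeal]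
  show g ^ (p + 1) ∉ y.asHomogeneousIdeal.toIdeal ↔ _
  exact not_congr (y.isPrime.pow_mem_iff_mem _ (Nat.succ_pos p))

include hg in
theorem IZ_compl {p : ℕ} (t : Fin (p + 1) → Fin (n + 1)) :
    IZ ((Proj.basicOpen (CohB1.polyGrading n k) g : Set ↥(P))ᶜ) t = (Ideal.span {gam hg t}).radical := by
  rw [← PrimeSpectrum.vanishingIdeal_zeroLocus_eq_radical, IZ]
  congr 1
  ext x
  rw [PrimeSpectrum.zeroLocus_span, PrimeSpectrum.mem_zeroLocus, Set.singleton_subset_iff]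
  have hx : (isAffineOpen_Dt (k := k) t).fromSpec x ∈ Dt k t := by
    have := Set.mem_range_self (f := (isAffineOpen_Dt (k := k) t).fromSpec) x
    rw [(isAffineOpen_Dt (k := k) t).range_fromSpec] at this
    exact this
  have h := (isAffineOpen_Dt (k := k) t).fromSpec_preimage_basicOpen (gam hg t)
  rw [Set.mem_preimage, Set.mem_compl_iff, SetLike.mem_coe, SetLike.mem_coe]
  rw [← mem_basicOpen_gam hg t _ hx]
  exact not_iff_comm.1 (Iff.trans (Iff.of_eq (congrArg (x ∈ ·) h).symm) Iff.rfl)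

include hg in
theorem mult_le_famZ :
    (mult g hg).sys ≤ (famZ ((Proj.basicOpen (CohB1.polyGrading n k) g : Set ↥(P))ᶜ)).sys :=
  Fam.sys_le fun {p} t => by
    rintro _ ⟨h, hh, rfl⟩
    have hx : toL n k g * h ∈ AS k 0 t := by
      have := mul_mem_AS (toL_mem_AS hg t) hh
      rwa [add_neg_cancel] at this
    have hc : mono n k ((δ : ℤ) • cnt t) * h ^ (p + 1) ∈ AS k 0 t := by
      have := mul_mem_AS (mono_cnt_mem_AS (k := k) t (δ : ℤ)) (pow_mem_AS hh (p + 1))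
      rwa [show (δ : ℤ) * ((p : ℤ) + 1) + ((p + 1 : ℕ) : ℤ) * -(δ : ℤ) = 0 by push_cast; ring] at this
    obtain ⟨s, hs⟩ := exists_val0 t hx
    obtain ⟨c, hcv⟩ := exists_val0 t hc
    refine ⟨s, ?_, hs⟩
    rw [SetLike.mem_coe, IZ_compl hg t]
    refine ⟨p + 1, Ideal.mem_span_singleton'.2 ⟨c, val0_injective t ?_⟩⟩
    rw [map_mul, map_pow, hs, hcv, val0_gam, mul_pow]
    rw [mul_comm (mono n k ((δ : ℤ) • cnt t)), mul_assoc, ← mul_assoc (mono n k ((δ : ℤ) • cnt t)),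
      mul_comm (mono n k ((δ : ℤ) • cnt t)) (toL n k g ^ (p + 1)), mul_assoc, mono_mul, add_neg_cancel, mono_zero,
      mul_one, mul_comm]

include hg in
theorem exists_pow_famZ_compl {p : ℕ} (x : (LC n k).X p)
    (hx : x ∈ (famZ ((Proj.basicOpen (CohB1.polyGrading n k) g : Set ↥(P))ᶜ)).sys.S p) :
    ∃ m : ℕ, (((LC n k).t p) ^ m) x ∈ (mult g hg).sys.S p := by
  refine exists_pow_sys x fun t => ?_
  obtain ⟨s, hs, e⟩ := (Fam.mem_sys _ x).1 hx t
  rw [SetLike.mem_coe, IZ_compl hg t] at hs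
  obtain ⟨N, hN⟩ := hs
  refine ⟨N, fun i hi => ?_⟩
  have hq : N ≤ Nat.card k ^ i := hi.trans (Nat.lt_pow_self Finite.one_lt_card).le
  obtain ⟨c, hc⟩ := Ideal.mem_span_singleton'.1 (Ideal.pow_mem_of_pow_mem _ hN hq)
  refine ⟨toL n k g ^ p * mono n k (-((δ : ℤ) • cnt t)) * val0 t c, ?_, ?_⟩
  · have h1 := mul_mem_AS (mul_mem_AS (pow_mem_AS (toL_mem_AS hg t) p) (mono_cnt_mem_AS (k := k) t (-(δ : ℤ))))
      (val0_mem t c)
    rw [show -((δ : ℤ) • cnt t) = (-(δ : ℤ)) • cnt t by rw [neg_smul]]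
    rwa [show (p : ℤ) * (δ : ℤ) + -(δ : ℤ) * ((p : ℤ) + 1) + 0 = -(δ : ℤ) by ring] at h1
  · show toL n k g * _ = _
    rw [← e, ← map_pow (val0 t), ← hc, map_mul, val0_gam, pow_succ]
    ring

end Hypersurface

end GrothLib.FrobTrace28
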